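import Groth.Agent.Lib.AnConn.Roots
import Mathlib.FieldTheory.PrimitiveElement
import Mathlib.FieldTheory.Perfect
import Mathlib.RingTheory.Localization.Integral
import Mathlib.RingTheory.Localization.Finiteness
import Mathlib.RingTheory.Algebraic.Integral

/-!
# The ℂ-points of an integral affine variety form a connected space
-/

open Filter Topology Polynomial
open scoped nonZeroDivisors

noncomputable section

namespace Groth.Agent.Lib.AnConn

open AnPts

variable (R : Type) [CommRing R] [Algebra ℂ R]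

/-- The space of ℂ-points of an algebra, inside `R → ℂ`. -/
def charSet : Set (R → ℂ) := Set.range fun φ : R →ₐ[ℂ] ℂ => (φ : R → ℂ)

variable [IsDomain R] [Algebra.FiniteType ℂ R]

/-- An affine integral variety is, outside a hypersurface, a hypersurface over affine space. -/
lemma exists_model : ∃ (n : ℕ) (ι : MvPolynomial (Fin n) ℂ →ₐ[ℂ] R) (θ : R)
    (p : (MvPolynomial (Fin n) ℂ)[X]) (g : MvPolynomial (Fin n) ℂ),
    Function.Injective ι ∧ p.Monic ∧ Irreducible p ∧ g ≠ 0 ∧
    (∀ Q : (MvPolynomial (Fin n) ℂ)[X], eval₂ (ι : MvPolynomial (Fin n) ℂ →+* R) θ Q = 0 ↔ p ∣ Q) ∧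
    (∀ r : R, ∃ (k : ℕ) (Q : (MvPolynomial (Fin n) ℂ)[X]),
      ι g ^ k * r = eval₂ (ι : MvPolynomial (Fin n) ℂ →+* R) θ Q) ∧
    (∀ t s, MvPolynomial.eval t g ≠ 0 → (p.map (MvPolynomial.eval t)).eval s = 0 →
      ((derivative p).map (MvPolynomial.eval t)).eval s ≠ 0) := by
  classical
  obtain ⟨n, ι, hinj, hfin⟩ := exists_finite_inj_algHom_of_fg ℂ R
  let P := MvPolynomial (Fin n) ℂ
  let : Algebra P R := ι.toRingHom.toAlgebra
  have : Module.Finite P R := hfin
  have : FaithfulSMul P R := (faithfulSMul_iff_algebraMap_injective P R).2 hinj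
  let F := FractionRing P
  let L := FractionRing R
  let : Algebra F L := FractionRing.liftAlgebra P L
  have : CharZero F := charZero_of_injective_algebraMap (R := P) (IsFractionRing.injective P F)
  have hfd : FiniteDimensional F L :=
    Module.Finite.of_isLocalization P R P⁰ (Rₚ := F) (Sₚ := L)
  obtain ⟨x, hx⟩ := Field.exists_primitive_element F L
  obtain ⟨r₀, ⟨_, c₀, hc₀, rfl⟩, hxr⟩ :=
    IsLocalization.exists_mk'_eq (Algebra.algebraMapSubmonoid R P⁰) x
  set θ := r₀
  have hθI : IsIntegral P θ := Algebra.IsIntegral.isIntegral θ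
  let p := minpoly P θ
  have hpm : p.Monic := minpoly.monic hθI
  have hirr : Irreducible p := minpoly.irreducible hθI
  have hker : ∀ Q : P[X], eval₂ (ι : P →+* R) θ Q = 0 ↔ p ∣ Q := by
    intro Q
    rw [show eval₂ (ι : P →+* R) θ Q = aeval θ Q from rfl]
    exact minpoly.isIntegrallyClosed_dvd_iff hθI Q
  -- `θ` generates the fraction field
  let θ' : L := algebraMap R L θ
  have hθ' : ∀ r : R, ∃ (c : P) (Q : P[X]), c ≠ 0 ∧ ι c * r = eval₂ (ι : P →+* R) θ Q := by
    intro r
    have hr : algebraMap R L r ∈ IntermediateField.adjoin F {θ'} := by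
      have hxθ : x ∈ IntermediateField.adjoin F {θ'} := by
        have he : x * algebraMap F L (algebraMap P F c₀) = θ' := by
          rw [← IsScalarTower.algebraMap_apply, IsScalarTower.algebraMap_apply P R L, ← hxr]
          exact IsLocalization.mk'_spec L _ _
        have hc : algebraMap F L (algebraMap P F c₀) ≠ 0 := by
          simpa using nonZeroDivisors.ne_zero hc₀
        rw [← mul_div_cancel_right₀ x hc, he]
        exact div_mem (IntermediateField.mem_adjoin_simple_self F θ')
          (IntermediateField.algebraMap_mem _ _)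
      have htop : (⊤ : IntermediateField F L) ≤ IntermediateField.adjoin F {θ'} := by
        rw [← hx, IntermediateField.adjoin_le_iff]
        exact Set.singleton_subset_iff.2 hxθ
      exact htop IntermediateField.mem_top
    have hint : IsIntegral F θ' := IsIntegral.of_finite F θ'
    have hmem : algebraMap R L r ∈ (IntermediateField.adjoin F {θ'}).toSubalgebra := hr
    rw [IntermediateField.adjoin_simple_toSubalgebra_of_isAlgebraic hint.isAlgebraic,
      Algebra.adjoin_singleton_eq_range_aeval] at hmem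
    obtain ⟨Qf, hQf⟩ := hmem
    obtain ⟨c, hc, hcQ⟩ := IsLocalization.integerNormalization_spec P⁰ Qf
    refine ⟨c, IsLocalization.integerNormalization P⁰ Qf, nonZeroDivisors.ne_zero hc, ?_⟩
    refine IsFractionRing.injective R L ?_
    have h1 : aeval θ' (IsLocalization.integerNormalization P⁰ Qf) =
        aeval θ' ((IsLocalization.integerNormalization P⁰ Qf).map (algebraMap P F)) :=
      (aeval_map_algebraMap F θ' _).symm
    rw [hcQ, ← algebraMap_smul F c Qf, map_smul, algebraMap_smul] at h1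
    change aeval θ' Qf = _ at hQf
    rw [hQf, Algebra.smul_def, IsScalarTower.algebraMap_apply P R L, aeval_algebraMap_apply] at h1
    rw [map_mul, ← show aeval θ (IsLocalization.integerNormalization P⁰ Qf) =
      eval₂ (ι : P →+* R) θ (IsLocalization.integerNormalization P⁰ Qf) from rfl, h1]
    rfl
  obtain ⟨S, hS⟩ := Module.Finite.fg_top (R := P) (M := R)
  choose cd Qd hcd hQd using hθ'
  let h := ∏ r ∈ S, cd r
  have hh : ∀ r : R, ∃ Q : P[X], ι h * r = eval₂ (ι : P →+* R) θ Q := by
    intro r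
    have hr : r ∈ Submodule.span P (S : Set R) := hS ▸ Submodule.mem_top
    induction hr using Submodule.span_induction with
    | mem b hb =>
      refine ⟨C (∏ r ∈ S.erase b, cd r) * Qd b, ?_⟩
      rw [eval₂_mul, eval₂_C, ← hQd b, ← mul_assoc]
      congr 1
      show ι h = ι _ * ι _
      rw [← map_mul, mul_comm, Finset.mul_prod_erase S cd hb]
    | zero => exact ⟨0, by simp⟩
    | add a b _ _ ha hb =>
      obtain ⟨Qa, ha⟩ := ha
      obtain ⟨Qb, hb⟩ := hb
      exact ⟨Qa + Qb, by rw [mul_add, ha, hb, eval₂_add]⟩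
    | smul c a _ ha =>
      obtain ⟨Qa, ha⟩ := ha
      refine ⟨C c * Qa, ?_⟩
      rw [eval₂_mul, eval₂_C, ← ha, Algebra.smul_def]
      show ι h * (ι c * a) = ι c * (ι h * a)
      ring
  -- separability away from a hypersurface
  have hirrF : Irreducible (p.map (algebraMap P F)) :=
    (Monic.irreducible_iff_irreducible_map_fraction_map hpm).1 hirr
  obtain ⟨a, b, hab⟩ := (hirrF.separable : (p.map (algebraMap P F)).Separable)
  obtain ⟨ca, hca, hA⟩ := IsLocalization.integerNormalization_spec P⁰ a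
  obtain ⟨cb, hcb, hBz⟩ := IsLocalization.integerNormalization_spec P⁰ b
  set A := IsLocalization.integerNormalization P⁰ a
  set B := IsLocalization.integerNormalization P⁰ b
  have hbez : C cb * A * p + C ca * B * derivative p = C (ca * cb) := by
    refine Polynomial.map_injective (algebraMap P F) (IsFractionRing.injective P F) ?_
    simp only [Polynomial.map_add, Polynomial.map_mul, map_C, ← derivative_map, hA, hBz,
      Algebra.smul_def, Polynomial.algebraMap_apply, map_mul]
    linear_combination (C (algebraMap P F ca) * C (algebraMap P F cb)) * hab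
  refine ⟨n, ι, θ, p, h * (ca * cb), hinj, hpm, hirr,
    mul_ne_zero (Finset.prod_ne_zero_iff.2 fun r _ => hcd r)
      (mul_ne_zero (nonZeroDivisors.ne_zero hca) (nonZeroDivisors.ne_zero hcb)), hker, ?_, ?_⟩
  · intro r
    obtain ⟨Q, hQ⟩ := hh r
    refine ⟨1, C (ca * cb) * Q, ?_⟩
    rw [pow_one, eval₂_mul, eval₂_C, ← hQ, map_mul]
    show ι h * ι (ca * cb) * r = ι (ca * cb) * (ι h * r)
    ring
  · intro t s ht hs hd
    have e := congrArg (fun q => (q.map (MvPolynomial.eval t)).eval s) hbez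
    simp only [Polynomial.map_add, Polynomial.map_mul, map_C, eval_add, eval_mul, hs, hd, mul_zero,
      add_zero, eval_C] at e
    rw [map_mul] at ht
    exact (mul_ne_zero_iff.1 ht).2 e.symm

/-- The ℂ-points of an integral affine variety form a preconnected space. -/
theorem isPreconnected_charSet : IsPreconnected (charSet R) := by
  classical
  obtain ⟨n, ι, θ, p, g, hinj, hpm, hirr, hg, hker, hrep, hsimple⟩ := exists_model R
  choose k Q hQ using hrep
  set V := {z : (Fin n → ℂ) × ℂ |
    MvPolynomial.eval z.1 g ≠ 0 ∧ (p.map (MvPolynomial.eval z.1)).eval z.2 = 0}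
  let e : ((Fin n → ℂ) × ℂ) → (MvPolynomial (Fin n) ℂ)[X] →+* ℂ := fun z =>
    (Polynomial.evalRingHom z.2).comp (Polynomial.mapRingHom (MvPolynomial.eval z.1))
  let ψ : ((Fin n → ℂ) × ℂ) → R → ℂ := fun z r => e z (Q r) / MvPolynomial.eval z.1 g ^ k r
  have heC : ∀ z c, e z (C c) = MvPolynomial.eval z.1 c := fun z c => by simp [e]
  have hwd : ∀ z ∈ V, ∀ Q₁ Q₂ : (MvPolynomial (Fin n) ℂ)[X],
      eval₂ (ι : MvPolynomial (Fin n) ℂ →+* R) θ Q₁ = eval₂ (ι : MvPolynomial (Fin n) ℂ →+* R) θ Q₂ →
      e z Q₁ = e z Q₂ := by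
    intro z hz Q₁ Q₂ h12
    obtain ⟨q, hq⟩ := (hker (Q₁ - Q₂)).1 (by rw [eval₂_sub, h12, sub_self])
    rw [← sub_eq_zero, ← map_sub, hq, map_mul]
    show (p.map (MvPolynomial.eval z.1)).eval z.2 * _ = 0
    rw [hz.2, zero_mul]
  have hval : ∀ z ∈ V, ∀ r j Q', ι g ^ j * r = eval₂ (ι : MvPolynomial (Fin n) ℂ →+* R) θ Q' →
      ψ z r = e z Q' / MvPolynomial.eval z.1 g ^ j := by
    intro z hz r j Q' hj
    have h1 := hwd z hz (C (g ^ j) * Q r) (C (g ^ k r) * Q') (by
      rw [eval₂_mul, eval₂_mul, eval₂_C, eval₂_C, ← hQ r, ← hj, map_pow, map_pow]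
      exact (mul_left_comm _ _ _))
    rw [map_mul, map_mul, heC, heC, map_pow, map_pow] at h1
    show e z (Q r) / _ = _
    rw [div_eq_div_iff (pow_ne_zero _ hz.1) (pow_ne_zero _ hz.1)]
    linear_combination h1
  have hψ : ∀ z ∈ V, ∃ φ : R →ₐ[ℂ] ℂ, (φ : R → ℂ) = ψ z := by
    intro z hz
    have hone : ψ z 1 = 1 := by
      rw [hval z hz 1 0 1 (by simp), map_one, pow_zero, div_one]
    have hmul : ∀ a b, ψ z (a * b) = ψ z a * ψ z b := fun a b => by
      rw [hval z hz (a * b) (k a + k b) (Q a * Q b) (by rw [eval₂_mul, ← hQ, ← hQ, pow_add]; ring),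
        map_mul, pow_add, ← div_mul_div_comm]
    have hadd : ∀ a b, ψ z (a + b) = ψ z a + ψ z b := fun a b => by
      rw [hval z hz (a + b) (k a + k b) (C (g ^ k b) * Q a + C (g ^ k a) * Q b) (by
        rw [eval₂_add, eval₂_mul, eval₂_mul, eval₂_C, eval₂_C, map_pow, map_pow, ← hQ, ← hQ, pow_add]
        show _ = ι g ^ k b * _ + ι g ^ k a * _
        ring), map_add, map_mul, map_mul, heC, heC, map_pow, map_pow, pow_add]
      show _ = e z (Q a) / _ + e z (Q b) / _
      rw [div_add_div _ _ (pow_ne_zero _ hz.1) (pow_ne_zero _ hz.1)]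
      congr 1
      ring
    have hzero : ψ z 0 = 0 := by
      rw [hval z hz 0 0 0 (by simp), map_zero, zero_div]
    refine ⟨{ toFun := ψ z, map_one' := hone, map_mul' := hmul, map_zero' := hzero, map_add' := hadd,
              commutes' := fun c => ?_ }, rfl⟩
    show ψ z (algebraMap ℂ R c) = c
    rw [hval z hz _ 0 (C (MvPolynomial.C c)) (by
      rw [pow_zero, one_mul, eval₂_C]; exact (ι.commutes c).symm), pow_zero, div_one, heC,
      MvPolynomial.eval_C]
  have hrange : ψ '' V = (fun φ : R →ₐ[ℂ] ℂ => (φ : R → ℂ)) '' {φ | φ (ι g) ≠ 0} := by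
    refine Set.Subset.antisymm ?_ ?_
    · rintro _ ⟨z, hz, rfl⟩
      obtain ⟨φ, hφ⟩ := hψ z hz
      refine ⟨φ, ?_, hφ⟩
      show φ (ι g) ≠ 0
      rw [show φ (ι g) = ψ z (ι g) from congrFun hφ _, hval z hz _ 0 (C g) (by simp), pow_zero, div_one, heC]
      exact hz.1
    · rintro _ ⟨φ, hφ, rfl⟩
      let t : Fin n → ℂ := fun i => φ (ι (MvPolynomial.X i))
      have hcomp : (φ : R →+* ℂ).comp (ι : MvPolynomial (Fin n) ℂ →+* R) = MvPolynomial.eval t :=
        MvPolynomial.ringHom_ext (fun c => by simp) (fun i => by simp [t])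
      have hev : ∀ Q', φ (eval₂ (ι : MvPolynomial (Fin n) ℂ →+* R) θ Q') = e (t, φ θ) Q' := by
        intro Q'
        show (φ : R →+* ℂ) _ = (Q'.map (MvPolynomial.eval t)).eval (φ θ)
        rw [hom_eval₂, hcomp, eval_map]
        rfl
      have hgt : MvPolynomial.eval t g ≠ 0 := by rw [← hcomp]; exact hφ
      refine ⟨(t, φ θ), ⟨hgt, ?_⟩, funext fun r => ?_⟩
      · show e (t, φ θ) p = 0
        rw [← hev, (hker p).2 dvd_rfl, map_zero]
      · have h1 := congrArg φ (hQ r)
        rw [map_mul, map_pow, hev, show φ (ι g) = MvPolynomial.eval t g from RingHom.congr_fun hcomp g] at h1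
        show e _ _ / _ = φ r
        rw [← h1, mul_div_cancel_left₀ _ (pow_ne_zero _ hgt)]
  have hcont : ContinuousOn ψ V := continuousOn_pi.2 fun r =>
    ((continuous_eval_eval (Q r)).continuousOn).div
      ((((MvPolynomial.continuous_eval g).comp continuous_fst).pow (k r)).continuousOn)
      fun z hz => pow_ne_zero _ hz.1
  have hpre : IsPreconnected ((fun φ : R →ₐ[ℂ] ℂ => (φ : R → ℂ)) '' {φ | φ (ι g) ≠ 0}) :=
    hrange ▸ (isPreconnected_rootSet p hpm hirr hg hsimple).image ψ hcont
  refine hpre.subset_closure (Set.image_subset_range _ _) ?_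
  rintro _ ⟨φ₀, rfl⟩
  exact mem_closure_ne_zero (fun h => hg (hinj (by rw [h, map_zero]))) φ₀

end Groth.Agent.Lib.AnConn
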