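import Groth.Agent.Lib.AnConn.ConnAlg
import Groth.Agent.Lib.AnPts.Dense

/-!
# Connectedness of the space of ℂ-points
-/

open AlgebraicGeometry CategoryTheory TopologicalSpace Opposite Topology

noncomputable section

namespace Groth.Agent.Lib.AnConn

open An AnPts

variable {X : Scheme.{0}} [X.Over SC] [LocallyOfFiniteType (X ↘ SC)]

/-- The ℂ-points of the closure of a point of an affine scheme form a preconnected space. -/
lemma isPreconnected_pts_closure_affine [IsAffine X] (η : X) :
    IsPreconnected (Pts.pt ⁻¹' closure {η} : Set (Pts X)) := by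
  let := (strHom X).toAlgebra
  have hft : Algebra.FiniteType ℂ Γ(X, ⊤) := finiteType_strHom X
  let q := (isAffineOpen_top X).primeIdealOf ⟨η, Opens.mem_top η⟩
  let p : Ideal Γ(X, ⊤) := q.asIdeal
  have hp : ∀ b : Γ(X, ⊤), b ∈ p ↔ η ∉ X.basicOpen b := by
    intro b
    have h1 := (isAffineOpen_top X).fromSpec_primeIdealOf ⟨η, Opens.mem_top η⟩
    have h2 := (isAffineOpen_top X).fromSpec_preimage_basicOpen b
    rw [show η = (isAffineOpen_top X).fromSpec q from h1.symm]
    show _ ↔ q ∉ (isAffineOpen_top X).fromSpec ⁻¹ᵁ X.basicOpen b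
    rw [h2]
    exact not_not.symm.trans (not_congr (PrimeSpectrum.mem_basicOpen _ _).symm)
  have : p.IsPrime := q.2
  let E : Pts X → (Γ(X, ⊤) → ℂ) := fun y b => y.evTop b
  have hE : IsInducing E := ⟨topology_eq_induced_evTop X⟩
  rw [← hE.isPreconnected_image]
  let c : ((Γ(X, ⊤) ⧸ p) → ℂ) → (Γ(X, ⊤) → ℂ) := fun v b => v (Ideal.Quotient.mk p b)
  have hc : Continuous c := continuous_pi fun b => continuous_apply _
  have hset : E '' (Pts.pt ⁻¹' closure {η}) = c '' charSet (Γ(X, ⊤) ⧸ p) := by
    refine Set.Subset.antisymm ?_ ?_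
    · rintro _ ⟨y, hy, rfl⟩
      let φ₁ : Γ(X, ⊤) →ₐ[ℂ] ℂ := { evTopHom y with commutes' := fun a => evTop_strHom y a }
      have hker : ∀ b ∈ p, φ₁ b = 0 := fun b hb => by
        by_contra h
        exact (hp b).1 hb ((specializes_iff_mem_closure.2 hy).mem_open (X.basicOpen b).2
          ((pt_mem_basicOpen_iff y (Opens.mem_top _) b).2 h))
      exact ⟨_, ⟨Ideal.Quotient.liftₐ p φ₁ hker, rfl⟩, rfl⟩
    · rintro _ ⟨_, ⟨φ, rfl⟩, rfl⟩
      obtain ⟨y, hy⟩ := exists_pts_of_ringHom ((φ : Γ(X, ⊤) ⧸ p →+* ℂ).comp (Ideal.Quotient.mk p))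
        (fun a => φ.commutes a)
      refine ⟨y, specializes_iff_mem_closure.1 (specializes_iff_forall_open.2 fun U hU hyU => ?_),
        funext hy⟩
      obtain ⟨b, hbU, hyb⟩ := (isAffineOpen_top X).exists_basicOpen_le (V := ⟨U, hU⟩) ⟨y.pt, hyU⟩
        (Opens.mem_top _)
      refine hbU (by_contra fun hηb => ?_)
      refine (pt_mem_basicOpen_iff y (Opens.mem_top _) b).1 hyb ?_
      show y.evTop b = 0
      rw [hy]
      show φ (Ideal.Quotient.mk p b) = 0
      rw [Ideal.Quotient.eq_zero_iff_mem.2 ((hp b).2 hηb), map_zero]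
  rw [hset]
  exact (isPreconnected_charSet _).image c hc.continuousOn

/-- The ℂ-points of an irreducible closed subset form a preconnected space. -/
theorem isPreconnected_pts_closure (η : X) :
    IsPreconnected (Pts.pt ⁻¹' closure {η} : Set (Pts X)) := by
  have hpiece : ∀ W : X.Opens, IsAffineOpen W → η ∈ W →
      IsPreconnected (Pts.pt ⁻¹' ((W : Set ↥X) ∩ closure {η}) : Set (Pts X)) := by
    intro W hW hη
    have : IsAffine W.toScheme := hW
    have : LocallyOfFiniteType (W.toScheme ↘ SC) :=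
      show LocallyOfFiniteType (W.ι ≫ X ↘ SC) from inferInstance
    let η' : ↥W.toScheme := ⟨η, hη⟩
    have h1 := (isPreconnected_pts_closure_affine (X := W.toScheme) η').image
      (Pts.map W.ι) (Pts.continuous_map W.ι).continuousOn
    have hcl : ∀ z : ↥W.toScheme, z ∈ closure ({η'} : Set ↥W.toScheme) ↔ W.ι z ∈ closure {η} := by
      intro z
      rw [W.ι.isOpenEmbedding.isInducing.closure_eq_preimage_closure_image, Set.image_singleton]
      exact Iff.rfl
    convert h1 using 1
    ext y
    constructor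
    · rintro ⟨hyW, hy⟩
      obtain ⟨y', rfl⟩ := exists_map_ι_eq hyW
      rw [Pts.pt_map] at hy
      exact ⟨y', (hcl _).2 hy, rfl⟩
    · rintro ⟨y', hy', rfl⟩
      show (Pts.map W.ι y').pt ∈ (W : Set ↥X) ∩ closure {η}
      rw [Pts.pt_map]
      exact ⟨y'.pt.2, (hcl _).1 hy'⟩
  refine isPreconnected_of_forall_pair fun a ha b hb => ?_
  obtain ⟨U, hU, haU, -⟩ := exists_isAffineOpen_mem_and_subset (U := ⊤) (x := a.pt) (Opens.mem_top _)
  obtain ⟨V, hV, hbV, -⟩ := exists_isAffineOpen_mem_and_subset (U := ⊤) (x := b.pt) (Opens.mem_top _)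
  have hηU : η ∈ U := (specializes_iff_mem_closure.2 ha).mem_open U.2 haU
  have hηV : η ∈ V := (specializes_iff_mem_closure.2 hb).mem_open V.2 hbV
  obtain ⟨c, ⟨hcU, hcV⟩, hc⟩ := exists_pt_mem_locallyClosed
    ((U.2.inter V.2).isLocallyClosed.inter (isClosed_closure (s := {η})).isLocallyClosed)
    ⟨η, ⟨hηU, hηV⟩, subset_closure rfl⟩
  refine ⟨Pts.pt ⁻¹' ((U : Set ↥X) ∩ closure {η}) ∪ Pts.pt ⁻¹' ((V : Set ↥X) ∩ closure {η}), ?_,
    Or.inl ⟨haU, ha⟩, Or.inr ⟨hbV, hb⟩,
    IsPreconnected.union c ⟨hcU, hc⟩ ⟨hcV, hc⟩ (hpiece U hU hηU) (hpiece V hV hηV)⟩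
  rintro z (h | h) <;> exact h.2

/-- A set stable under specialization and generalization is clopen. -/
lemma isClopen_of_stable {S : Set ↥X} (hs : StableUnderSpecialization S)
    (hg : StableUnderGeneralization S) : IsClopen S := by
  suffices h : ∀ T : Set ↥X, StableUnderSpecialization T → StableUnderGeneralization T → IsClosed T from
    ⟨h S hs hg, by
      simpa using (h Sᶜ (stableUnderSpecialization_compl_iff.2 hg)
        (stableUnderGeneralization_compl_iff.2 hs)).isOpen_compl⟩
  intro T hTs hTg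
  rw [← isOpen_compl_iff, isOpen_iff_forall_mem_open]
  intro x hx
  obtain ⟨W, hW, hxW, -⟩ :=
    exists_isAffineOpen_mem_and_subset (U := ⊤) (x := x) (Opens.mem_top _)
  have : IsAffine W.toScheme := hW
  have : LocallyOfFiniteType (W.toScheme ↘ SC) :=
    show LocallyOfFiniteType (W.ι ≫ X ↘ SC) from inferInstance
  have := noetherianSpace_of_isAffine W.toScheme
  have hcl : IsClosed (W.ι ⁻¹' T) := by
    have e : W.ι ⁻¹' T = ⋃₀ {Z ∈ irreducibleComponents W.toScheme | Z ⊆ W.ι ⁻¹' T} := by
      refine Set.Subset.antisymm (fun z hz => ?_) (Set.sUnion_subset fun Z hZ => hZ.2)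
      obtain ⟨γ, hγ⟩ := QuasiSober.sober
        (isIrreducible_irreducibleComponent (x := z)) isClosed_irreducibleComponent
      refine ⟨irreducibleComponent z, ⟨irreducibleComponent_mem_irreducibleComponents z, fun w hw => ?_⟩,
        mem_irreducibleComponent⟩
      have h1 : γ ∈ W.ι ⁻¹' T :=
        hTg ((hγ.specializes mem_irreducibleComponent).map W.ι.continuous) hz
      exact hTs ((hγ.specializes hw).map W.ι.continuous) h1
    rw [e, Set.sUnion_eq_biUnion]
    exact (NoetherianSpace.finite_irreducibleComponents.subset fun Z hZ => hZ.1).isClosed_biUnion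
      fun Z hZ => isClosed_of_mem_irreducibleComponents Z hZ.1
  refine ⟨W.ι '' (W.ι ⁻¹' T)ᶜ, ?_, W.ι.isOpenEmbedding.isOpenMap _ hcl.isOpen_compl, ⟨⟨x, hxW⟩, hx, rfl⟩⟩
  rintro _ ⟨w, hw, rfl⟩
  exact hw

/-- Every clopen set of ℂ-points comes from a clopen set of the scheme. -/
theorem exists_isClopen_preimage {W : Set (Pts X)} (hW : IsClopen W) :
    ∃ S : Set ↥X, IsClopen S ∧ W = Pts.pt ⁻¹' S := by
  let S : Set ↥X := {z | (Pts.pt ⁻¹' closure {z} : Set (Pts X)) ⊆ W}
  have hmono : ∀ {z w : X}, z ⤳ w → (Pts.pt ⁻¹' closure {w} : Set (Pts X)) ⊆ Pts.pt ⁻¹' closure {z} :=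
    fun h => Set.preimage_mono (closure_minimal (Set.singleton_subset_iff.2 h.mem_closure) isClosed_closure)
  refine ⟨S, isClopen_of_stable (fun z w h hz => (hmono h).trans hz) (fun w z h hw => ?_), ?_⟩
  · obtain ⟨y, hy⟩ := exists_pt_mem_locallyClosed (X := X) (isClosed_closure (s := {w})).isLocallyClosed
      ⟨w, subset_closure rfl⟩
    exact (isPreconnected_pts_closure z).subset_isClopen hW ⟨y, hmono h hy, hw hy⟩
  · ext y
    show y ∈ W ↔ (Pts.pt ⁻¹' closure {y.pt} : Set (Pts X)) ⊆ W
    rw [(isClosed_pt y).closure_eq]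
    exact ⟨fun hy z hz => pt_injective (Set.mem_singleton_iff.1 hz) ▸ hy, fun h => h rfl⟩

lemma pts_nonempty_iff : Nonempty (Pts X) ↔ Nonempty X := by
  refine ⟨fun ⟨y⟩ => ⟨y.pt⟩, fun ⟨z⟩ => ?_⟩
  obtain ⟨y, -⟩ := exists_pt_mem_locallyClosed (X := X) isClosed_univ.isLocallyClosed ⟨z, Set.mem_univ z⟩
  exact ⟨y⟩

/-- Clopen sets of a scheme are determined by their ℂ-points. -/
lemma eq_of_preimage_eq {S T : Set ↥X} (hS : IsClopen S) (hT : IsClopen T)
    (h : (Pts.pt ⁻¹' S : Set (Pts X)) = Pts.pt ⁻¹' T) : S = T :=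
  Set.Subset.antisymm
    (subset_of_pt_preimage_subset (isLocallyConstructible_of_isOpen hS.2)
      (isLocallyConstructible_of_isOpen hT.1.isOpen_compl) h.subset)
    (subset_of_pt_preimage_subset (isLocallyConstructible_of_isOpen hT.2)
      (isLocallyConstructible_of_isOpen hS.1.isOpen_compl) h.symm.subset)

/-- Connectedness of `X` and of `X(ℂ)` agree. -/
theorem connectedSpace_iff_pts : ConnectedSpace ↥X ↔ ConnectedSpace (Pts X) := by
  rw [connectedSpace_iff_clopen, connectedSpace_iff_clopen]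
  constructor
  · rintro ⟨hne, h⟩
    refine ⟨pts_nonempty_iff.2 hne, fun W hW => ?_⟩
    obtain ⟨S, hS, rfl⟩ := exists_isClopen_preimage hW
    rcases h S hS with rfl | rfl
    · exact Or.inl rfl
    · exact Or.inr rfl
  · rintro ⟨hne, h⟩
    refine ⟨pts_nonempty_iff.1 hne, fun S hS => ?_⟩
    rcases h _ (hS.preimage Pts.continuous_pt) with h0 | h0
    · exact Or.inl (eq_of_preimage_eq hS isClopen_empty h0)
    · exact Or.inr (eq_of_preimage_eq hS isClopen_univ h0)

lemma isClopen_connectedComponent_scheme (x : X) : IsClopen (connectedComponent x) := by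
  refine isClopen_of_stable (fun z w h hz => isClosed_connectedComponent.stableUnderSpecialization h hz) ?_
  intro w z h hw
  have h1 : closure {z} ⊆ connectedComponent w :=
    (isPreconnected_singleton.closure).subset_connectedComponent h.mem_closure
  rw [connectedComponent_eq hw]
  exact h1 (subset_closure rfl)

/-- The preimage of a connected component is connected. -/
theorem isPreconnected_preimage_connectedComponent (x : X) :
    IsPreconnected (Pts.pt ⁻¹' connectedComponent x : Set (Pts X)) := by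
  set C : Set (Pts X) := Pts.pt ⁻¹' connectedComponent x
  have hC : IsClopen C := (isClopen_connectedComponent_scheme x).preimage Pts.continuous_pt
  refine isPreconnected_iff_subset_of_disjoint.2 fun u v hu hv huv hdisj => ?_
  have hW : IsClopen (C ∩ u) := by
    refine ⟨?_, hC.2.inter hu⟩
    have : C ∩ u = C \ v := by
      ext z
      constructor
      · exact fun hz => ⟨hz.1, fun h => Set.eq_empty_iff_forall_notMem.1 hdisj z ⟨hz.1, hz.2, h⟩⟩
      · exact fun hz => ⟨hz.1, (huv hz.1).resolve_right hz.2⟩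
    rw [this]
    exact hC.1.sdiff hv
  obtain ⟨S, hS, hSW⟩ := exists_isClopen_preimage hW
  rcases em ((connectedComponent x ∩ S).Nonempty) with hne | hne
  · left
    have : connectedComponent x ⊆ S :=
      isPreconnected_connectedComponent.subset_isClopen hS hne
    intro z hz
    have : z ∈ C ∩ u := hSW ▸ this hz
    exact this.2
  · right
    intro z hz
    refine (huv hz).resolve_left fun h => hne ⟨z.pt, hz, ?_⟩
    have : z ∈ C ∩ u := ⟨hz, h⟩
    rw [hSW] at this
    exact this

theorem bijective_connectedComponentsMap :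
    Function.Bijective (Pts.continuous_pt (X := X)).connectedComponentsMap := by
  constructor
  · intro a b
    obtain ⟨a, rfl⟩ := ConnectedComponents.surjective_coe a
    obtain ⟨b, rfl⟩ := ConnectedComponents.surjective_coe b
    intro h
    replace h : connectedComponent a.pt = connectedComponent b.pt :=
      ConnectedComponents.coe_eq_coe.1 h
    refine ConnectedComponents.coe_eq_coe'.2 ?_
    exact (isPreconnected_preimage_connectedComponent (b.pt)).subset_connectedComponent
      mem_connectedComponent (show a.pt ∈ connectedComponent b.pt from h ▸ mem_connectedComponent)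
  · intro z
    obtain ⟨z, rfl⟩ := ConnectedComponents.surjective_coe z
    obtain ⟨y, hy⟩ := exists_pt_mem_locallyClosed (X := X)
      (isClosed_connectedComponent (x := z)).isLocallyClosed ⟨z, mem_connectedComponent⟩
    exact ⟨y, ConnectedComponents.coe_eq_coe'.2 hy⟩

end Groth.Agent.Lib.AnConn
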