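import Groth.Agent.Lib.AnPts.Core
import Mathlib.Analysis.Complex.RemovableSingularity
import Mathlib.Analysis.Complex.Liouville
import Mathlib.LinearAlgebra.Lagrange
import Mathlib.Algebra.MvPolynomial.Equiv

/-!
# Holomorphic functions of polynomial growth off a hypersurface are polynomials
-/

open Filter Topology Polynomial

noncomputable section

namespace Groth.Agent.Lib.AnConn

/-- An entire function of polynomial growth is a polynomial. -/
theorem exists_polynomial_of_growth (N : ℕ) {f : ℂ → ℂ} (hf : Differentiable ℂ f) {C : ℝ}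
    (hC : ∀ z, ‖f z‖ ≤ C * (1 + ‖z‖) ^ N) : ∃ q : ℂ[X], q.natDegree ≤ N ∧ ∀ z, f z = q.eval z := by
  induction N generalizing f C with
  | zero =>
    refine ⟨Polynomial.C (f 0), by simp, fun z => ?_⟩
    rw [eval_C]
    refine hf.apply_eq_apply_of_bounded ?_ z 0
    rw [Metric.isBounded_iff_subset_closedBall 0]
    exact ⟨C, by rintro _ ⟨w, rfl⟩; simpa using hC w⟩
  | succ N ih =>
    have hC0 : 0 ≤ C := by simpa using (norm_nonneg (f 0)).trans (hC 0)
    have hg : Differentiable ℂ (dslope f 0) :=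
      differentiableOn_univ.1 ((Complex.differentiableOn_dslope univ_mem).2 hf.differentiableOn)
    obtain ⟨M, hM⟩ := (isCompact_closedBall (0 : ℂ) 1).exists_bound_of_continuousOn
      hg.continuous.continuousOn
    have hM0 : 0 ≤ M := (norm_nonneg _).trans (hM 0 (by simp))
    have hbound : ∀ z, ‖dslope f 0 z‖ ≤ (M + 2 * C + ‖f 0‖) * (1 + ‖z‖) ^ N := by
      intro z
      have h1 : (1 : ℝ) ≤ (1 + ‖z‖) ^ N := one_le_pow₀ (by linarith [norm_nonneg z])
      rcases le_or_gt ‖z‖ 1 with h | h
      · calc ‖dslope f 0 z‖ ≤ M * 1 := by simpa using hM z (by simpa using h)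
          _ ≤ (M + 2 * C + ‖f 0‖) * (1 + ‖z‖) ^ N := by
            gcongr
            linarith [norm_nonneg (f 0)]
      · have hz : z ≠ 0 := by intro e; simp [e] at h; linarith
        rw [dslope_of_ne _ hz, slope_def_field, sub_zero, norm_div, div_le_iff₀ (norm_pos_iff.2 hz)]
        have h3 := hC z
        rw [pow_succ] at h3
        have h4 := norm_sub_le (f z) (f 0)
        have h5 : 0 ≤ C * (1 + ‖z‖) ^ N := mul_nonneg hC0 (by linarith)
        nlinarith [norm_nonneg (f 0), mul_le_mul_of_nonneg_left (show 1 + ‖z‖ ≤ 2 * ‖z‖ by linarith) h5,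
          mul_le_mul_of_nonneg_left h.le (norm_nonneg (f 0)), mul_nonneg hM0 (norm_nonneg z),
          mul_le_mul_of_nonneg_left h1 (add_nonneg (mul_nonneg hM0 (norm_nonneg z))
            (mul_nonneg (norm_nonneg (f 0)) (norm_nonneg z)))]
    obtain ⟨q, hq, hfq⟩ := ih hg hbound
    refine ⟨X * q + Polynomial.C (f 0), ?_, fun z => ?_⟩
    · rw [natDegree_add_C]
      exact natDegree_mul_le.trans (by rw [natDegree_X]; omega)
    · have e := sub_smul_dslope f 0 z
      rw [sub_zero, smul_eq_mul, hfq] at e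
      simp [e]

/-- The same with finitely many exceptional points. -/
theorem exists_polynomial_of_growth_off_finite (N : ℕ) (s : Finset ℂ) :
    ∀ {f : ℂ → ℂ}, DifferentiableOn ℂ f (↑s)ᶜ → ∀ {C : ℝ}, 0 ≤ C →
      (∀ z ∉ s, ‖f z‖ ≤ C * (1 + ‖z‖) ^ N) →
      ∃ q : ℂ[X], q.natDegree ≤ N ∧ ∀ z ∉ s, f z = q.eval z := by
  classical
  induction s using Finset.induction generalizing N with
  | empty =>
    intro f hf C _ hC
    obtain ⟨q, h1, h2⟩ := exists_polynomial_of_growth N
      (differentiableOn_univ.1 (by simpa using hf)) (fun z => hC z (by simp))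
    exact ⟨q, h1, fun z _ => h2 z⟩
  | insert a s ha ih =>
    intro f hf C hC0 hC
    let h : ℂ → ℂ := fun z => if z = a then 0 else (z - a) * f z
    have hopen : IsOpen ((s : Set ℂ)ᶜ) := s.finite_toSet.isClosed.isOpen_compl
    obtain ⟨δ, hδ, hball⟩ := Metric.isOpen_iff.1 hopen a (by simpa using ha)
    have hcont : ContinuousAt h a := by
      refine Metric.continuousAt_iff.2 fun ε hε => ?_
      let K := C * (2 + ‖a‖) ^ N + 1
      have hK : 0 < K := by positivity
      refine ⟨min δ (min 1 (ε / K)), lt_min hδ (lt_min one_pos (div_pos hε hK)), fun z hz => ?_⟩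
      simp only [h, dist_zero_right, if_true]
      split_ifs with e
      · simpa using hε
      have hzs : z ∉ (insert a s : Finset ℂ) := by
        simp only [Finset.mem_insert, not_or]
        exact ⟨e, by simpa using hball (Metric.mem_ball.2 (hz.trans_le (min_le_left _ _)))⟩
      rw [dist_eq_norm] at hz
      have h1 : ‖z - a‖ < ε / K := hz.trans_le ((min_le_right _ _).trans (min_le_right _ _))
      have h2 : ‖z‖ ≤ 1 + ‖a‖ := by
        have : ‖z - a‖ < 1 := hz.trans_le ((min_le_right _ _).trans (min_le_left _ _))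
        linarith [norm_sub_norm_le z a]
      have h3 : ‖f z‖ ≤ K := (hC z hzs).trans (le_add_of_le_of_nonneg
        (mul_le_mul_of_nonneg_left (pow_le_pow_left₀ (by positivity) (by linarith) N) hC0) zero_le_one)
      rw [norm_mul]
      calc ‖z - a‖ * ‖f z‖ ≤ ‖z - a‖ * K := mul_le_mul_of_nonneg_left h3 (norm_nonneg _)
        _ < ε := (lt_div_iff₀ hK).1 h1
    have hdiff : DifferentiableOn ℂ h (↑s)ᶜ := by
      refine (Complex.differentiableOn_compl_singleton_and_continuousAt_iff
        (hopen.mem_nhds (by simpa using ha))).1 ⟨?_, hcont⟩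
      refine DifferentiableOn.congr (f := fun z => (z - a) * f z) ?_ fun z hz => if_neg hz.2
      refine ((differentiableOn_id.sub_const a).mul (hf.mono ?_))
      intro z hz
      simp only [Set.mem_compl_iff, Finset.coe_insert, Set.mem_insert_iff, not_or]
      exact ⟨hz.2, hz.1⟩
    obtain ⟨q, hq, hhq⟩ := ih (N + 1) (f := h) hdiff (C := C * (1 + ‖a‖)) (by positivity)
      (fun z hz => by
        simp only [h]
        split_ifs with e
        · simpa using mul_nonneg (mul_nonneg hC0 (by positivity : (0 : ℝ) ≤ 1 + ‖a‖))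
            (pow_nonneg (by positivity : (0 : ℝ) ≤ 1 + ‖z‖) (N + 1))
        · rw [norm_mul, pow_succ]
          have h1 := hC z (by simp [e, hz])
          have h2 : ‖z - a‖ ≤ (1 + ‖a‖) * (1 + ‖z‖) := by
            nlinarith [norm_sub_le z a, norm_nonneg z, norm_nonneg a]
          calc ‖z - a‖ * ‖f z‖ ≤ ((1 + ‖a‖) * (1 + ‖z‖)) * (C * (1 + ‖z‖) ^ N) :=
                mul_le_mul h2 h1 (norm_nonneg _) (by positivity)
            _ = _ := by ring)
    have hroot : q.IsRoot a := by
      have := hhq a ha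
      simpa [h] using this.symm
    refine ⟨q /ₘ (X - Polynomial.C a), ?_, fun z hz => ?_⟩
    · rw [natDegree_divByMonic _ (monic_X_sub_C a), natDegree_X_sub_C]
      omega
    · simp only [Finset.mem_insert, not_or] at hz
      have := hhq z hz.2
      simp only [h, if_neg hz.1] at this
      rw [← mul_divByMonic_eq_iff_isRoot.2 hroot, eval_mul, eval_sub, eval_X, eval_C] at this
      exact mul_left_cancel₀ (sub_ne_zero.2 hz.1) this

/-- Several variables: holomorphic and of polynomial growth off a hypersurface implies polynomial. -/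
theorem exists_mvPolynomial_of_growth : ∀ (n : ℕ) {g : MvPolynomial (Fin n) ℂ}, g ≠ 0 →
    ∀ {c : (Fin n → ℂ) → ℂ}, DifferentiableOn ℂ c {z | MvPolynomial.eval z g ≠ 0} →
    ∀ {C : ℝ}, 0 ≤ C → ∀ {N : ℕ}, (∀ z, MvPolynomial.eval z g ≠ 0 → ‖c z‖ ≤ C * (1 + ‖z‖) ^ N) →
    ∃ Q : MvPolynomial (Fin n) ℂ, ∀ z, MvPolynomial.eval z g ≠ 0 → c z = MvPolynomial.eval z Q := by
  intro n
  induction n with
  | zero =>
    intro g _ c _ C _ N _
    refine ⟨MvPolynomial.C (c 0), fun z _ => ?_⟩
    rw [MvPolynomial.eval_C, Subsingleton.elim z 0]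
  | succ n ih =>
    classical
    intro g hg c hc C hC0 N hC
    let G := MvPolynomial.finSuccEquiv ℂ n g
    let L := G.leadingCoeff
    have hG : G ≠ 0 := by simpa [G] using hg
    have hL : L ≠ 0 := leadingCoeff_ne_zero.2 hG
    let D := G.natDegree
    have hev : ∀ (y : ℂ) (t : Fin n → ℂ), MvPolynomial.eval (Fin.cons y t) g =
        (G.map (MvPolynomial.eval t)).eval y := fun y t => MvPolynomial.eval_eq_eval_mv_eval' t y g
    have hne : ∀ t, MvPolynomial.eval t L ≠ 0 → G.map (MvPolynomial.eval t) ≠ 0 := by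
      intro t ht e
      refine ht ?_
      have h1 := congrArg (fun p => p.coeff D) e
      rw [coeff_map, coeff_zero] at h1
      exact h1
    let T : Finset ℂ := (Finset.range (D + N + 1)).image (fun j : ℕ => (j : ℂ))
    have hT : T.card = D + N + 1 := by
      rw [Finset.card_image_of_injective _ Nat.cast_injective, Finset.card_range]
    let Js := T.powersetCard (N + 1)
    let bad : (Fin n → ℂ) → Finset ℂ := fun t => (G.map (MvPolynomial.eval t)).roots.toFinset
    have hbad : ∀ t, MvPolynomial.eval t L ≠ 0 → ∀ y,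
        (y ∉ bad t ↔ MvPolynomial.eval (Fin.cons y t) g ≠ 0) := by
      intro t ht y
      rw [hev, Multiset.mem_toFinset, mem_roots (hne t ht)]
      exact Iff.rfl
    have hnodes : ∀ t, MvPolynomial.eval t L ≠ 0 → ∃ J ∈ Js, ∀ j ∈ J, j ∉ bad t := by
      intro t _
      have h1 : (bad t).card ≤ D :=
        (Multiset.toFinset_card_le _).trans ((card_roots' _).trans natDegree_map_le)
      have h2 : N + 1 ≤ (T \ bad t).card := by
        have := Finset.le_card_sdiff (bad t) T
        omega
      obtain ⟨J, hJ, hJc⟩ := Finset.exists_subset_card_eq h2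
      exact ⟨J, Finset.mem_powersetCard.2 ⟨hJ.trans Finset.sdiff_subset, hJc⟩,
        fun j hj => (Finset.mem_sdiff.1 (hJ hj)).2⟩
    -- the restriction to each line
    have hline : ∀ t, MvPolynomial.eval t L ≠ 0 → ∃ q : ℂ[X], q.natDegree ≤ N ∧
        ∀ y ∉ bad t, c (Fin.cons y t) = q.eval y := by
      intro t ht
      have haff : Differentiable ℂ (fun y : ℂ => (Fin.cons y t : Fin (n + 1) → ℂ)) :=
        differentiable_pi.2 (Fin.cases (by simp) (by simp))
      refine exists_polynomial_of_growth_off_finite N (bad t) (f := fun y => c (Fin.cons y t))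
        (hc.comp haff.differentiableOn fun y hy => (hbad t ht y).1 (by simpa using hy))
        (C := C * (1 + ‖t‖) ^ N) (mul_nonneg hC0 (by positivity)) fun y hy => ?_
      refine (hC _ ((hbad t ht y).1 hy)).trans ?_
      rw [mul_assoc, ← mul_pow]
      refine mul_le_mul_of_nonneg_left (pow_le_pow_left₀ (by positivity) ?_ N) hC0
      have : ‖(Fin.cons y t : Fin (n + 1) → ℂ)‖ ≤ ‖y‖ + ‖t‖ := by
        refine (pi_norm_le_iff_of_nonneg (by positivity)).2 (Fin.cases ?_ fun i => ?_)
        · simp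
        · simpa using (norm_le_pi_norm t i).trans (le_add_of_nonneg_left (norm_nonneg y))
      nlinarith [norm_nonneg y, norm_nonneg t]
    choose! q hq hcq using hline
    have hinterp : ∀ t, MvPolynomial.eval t L ≠ 0 → ∀ J ∈ Js, (∀ j ∈ J, j ∉ bad t) →
        q t = Lagrange.interpolate J id (fun j => c (Fin.cons j t)) := by
      intro t ht J hJ hJb
      refine Lagrange.eq_interpolate_of_eval_eq _ Function.injective_id.injOn ?_
        fun j hj => (hcq t ht j (hJb j hj)).symm
      rw [(Finset.mem_powersetCard.1 hJ).2]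
      exact lt_of_le_of_lt (degree_le_of_natDegree_le (hq t ht)) (by exact_mod_cast Nat.lt_succ_self N)
    let b : Finset ℂ → ℂ → ℕ → ℂ := fun J j k => (Lagrange.basis J id j).coeff k
    have hcoeff : ∀ t, MvPolynomial.eval t L ≠ 0 → ∀ J ∈ Js, (∀ j ∈ J, j ∉ bad t) → ∀ k,
        (q t).coeff k = ∑ j ∈ J, c (Fin.cons j t) * b J j k := by
      intro t ht J hJ hJb k
      rw [hinterp t ht J hJ hJb, Lagrange.interpolate_apply, finsetSum_coeff]
      exact Finset.sum_congr rfl fun j _ => coeff_C_mul _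
    have hdiff : ∀ k, DifferentiableOn ℂ (fun t => (q t).coeff k) {t | MvPolynomial.eval t L ≠ 0} := by
      intro k t₀ ht₀
      obtain ⟨J, hJ, hJb⟩ := hnodes t₀ ht₀
      have hcons : ∀ j : ℂ, Differentiable ℂ (fun t : Fin n → ℂ => (Fin.cons j t : Fin (n + 1) → ℂ)) :=
        fun j => differentiable_pi.2 (Fin.cases (by simp) (fun i => by simpa using differentiable_apply i))
      have hopen : ∀ᶠ t in 𝓝 t₀, MvPolynomial.eval t L ≠ 0 ∧ ∀ j ∈ J, j ∉ bad t := by
        have h1 : ∀ᶠ t in 𝓝 t₀, MvPolynomial.eval t L ≠ 0 :=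
          (MvPolynomial.continuous_eval L).continuousAt.eventually_ne ht₀
        have h2 : ∀ᶠ t in 𝓝 t₀, ∀ j ∈ J, MvPolynomial.eval (Fin.cons j t) g ≠ 0 :=
          (Finset.eventually_all _).2 fun j hj =>
            (((MvPolynomial.continuous_eval g).comp (hcons j).continuous).continuousAt.eventually_ne
              ((hbad t₀ ht₀ j).1 (hJb j hj)))
        exact (h1.and h2).mono fun t ht => ⟨ht.1, fun j hj => (hbad t ht.1 j).2 (ht.2 j hj)⟩
      refine DifferentiableAt.differentiableWithinAt ?_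
      refine DifferentiableAt.congr_of_eventuallyEq ?_
        (hopen.mono fun t ht => hcoeff t ht.1 J hJ ht.2 k)
      refine DifferentiableAt.fun_sum fun j hj => DifferentiableAt.mul_const ?_ _
      refine DifferentiableAt.comp t₀ ?_ (hcons j t₀)
      exact hc.differentiableAt ((isOpen_ne.preimage (MvPolynomial.continuous_eval g)).mem_nhds
        ((hbad t₀ ht₀ j).1 (hJb j hj)))
    have hgrow : ∀ k, ∀ t, MvPolynomial.eval t L ≠ 0 → ‖(q t).coeff k‖ ≤
        (C * ((D + N + 1 : ℕ) + 1 : ℝ) ^ N * ∑ J ∈ Js, ∑ j ∈ J, ‖b J j k‖) * (1 + ‖t‖) ^ N := by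
      intro k t ht
      obtain ⟨J, hJ, hJb⟩ := hnodes t ht
      rw [hcoeff t ht J hJ hJb]
      refine (norm_sum_le _ _).trans ?_
      have h1 : ∀ j ∈ J, ‖c (Fin.cons j t) * b J j k‖ ≤
          C * ((D + N + 1 : ℕ) + 1 : ℝ) ^ N * (1 + ‖t‖) ^ N * ‖b J j k‖ := by
        intro j hj
        rw [norm_mul]
        refine mul_le_mul_of_nonneg_right ((hC _ ((hbad t ht j).1 (hJb j hj))).trans ?_) (norm_nonneg _)
        rw [mul_assoc C, ← mul_pow]
        refine mul_le_mul_of_nonneg_left (pow_le_pow_left₀ (by positivity) ?_ N) hC0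
        obtain ⟨m, hm, rfl⟩ := Finset.mem_image.1 ((Finset.mem_powersetCard.1 hJ).1 hj)
        have hm' : (m : ℝ) ≤ (D + N + 1 : ℕ) := by exact_mod_cast (Finset.mem_range.1 hm).le
        have : ‖(Fin.cons (m : ℂ) t : Fin (n + 1) → ℂ)‖ ≤ m + ‖t‖ := by
          refine (pi_norm_le_iff_of_nonneg (by positivity)).2 (Fin.cases ?_ fun i => ?_)
          · simp
          · simpa using (norm_le_pi_norm t i).trans (le_add_of_nonneg_left (Nat.cast_nonneg m))
        nlinarith [norm_nonneg t, Nat.cast_nonneg (α := ℝ) (D + N + 1), Nat.cast_nonneg (α := ℝ) m]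
      refine (Finset.sum_le_sum h1).trans ?_
      rw [← Finset.mul_sum]
      have h2 : ∀ a b d e : ℝ, 0 ≤ a → 0 ≤ b → d ≤ e → a * b * d ≤ a * e * b :=
        fun a b d e ha hb hde => by nlinarith [mul_le_mul_of_nonneg_left hde (mul_nonneg ha hb)]
      refine h2 _ _ _ _ (by positivity) (by positivity) ?_
      exact Finset.single_le_sum (f := fun J => ∑ j ∈ J, ‖b J j k‖)
        (fun J _ => Finset.sum_nonneg fun j _ => norm_nonneg _) hJ
    choose Q hQ using fun k => ih hL (hdiff k) (by positivity) (hgrow k)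
    refine ⟨(MvPolynomial.finSuccEquiv ℂ n).symm
      (∑ k ∈ Finset.range (N + 1), Polynomial.C (Q k) * X ^ k), ?_⟩
    set R := (MvPolynomial.finSuccEquiv ℂ n).symm
      (∑ k ∈ Finset.range (N + 1), Polynomial.C (Q k) * X ^ k) with hR
    have hmain : ∀ z, MvPolynomial.eval z g ≠ 0 → MvPolynomial.eval (Fin.tail z) L ≠ 0 →
        c z = MvPolynomial.eval z R := by
      intro z hz hzL
      obtain ⟨y, t, rfl⟩ : ∃ y t, z = Fin.cons y t := ⟨z 0, Fin.tail z, (Fin.cons_self_tail z).symm⟩
      rw [Fin.tail_cons] at hzL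
      rw [hcq t hzL y ((hbad t hzL y).2 hz), MvPolynomial.eval_eq_eval_mv_eval', hR,
        AlgEquiv.apply_symm_apply, Polynomial.map_sum, eval_finsetSum,
        eval_eq_sum_range' (Nat.lt_succ_of_le (hq t hzL))]
      refine Finset.sum_congr rfl fun k _ => ?_
      simp [hQ k t hzL]
    let g₂ : MvPolynomial (Fin (n + 1)) ℂ := g * MvPolynomial.rename Fin.succ L
    have hg₂ : g₂ ≠ 0 := mul_ne_zero hg fun e => hL
      (MvPolynomial.rename_injective _ (Fin.succ_injective _) (by simpa using e))
    intro z hz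
    have hopen : IsOpen {z : Fin (n + 1) → ℂ | MvPolynomial.eval z g ≠ 0} :=
      isOpen_ne.preimage (MvPolynomial.continuous_eval g)
    refine Set.EqOn.of_subset_closure (s := {z | MvPolynomial.eval z g₂ ≠ 0}) ?_ hc.continuousOn
      (MvPolynomial.continuous_eval R).continuousOn ?_ ?_ hz
    · intro w hw
      simp only [g₂, map_mul, Set.mem_ofPred_eq, mul_ne_zero_iff, MvPolynomial.eval_rename] at hw
      exact hmain w hw.1 hw.2
    · intro w hw
      simp only [g₂, map_mul, Set.mem_ofPred_eq, mul_ne_zero_iff] at hw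
      exact hw.1
    · exact fun w _ => AnPts.dense_eval_ne_zero hg₂ w

end Groth.Agent.Lib.AnConn
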