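import Groth.Agent.Lib.AnConn.PolyGrowth
import Mathlib.Analysis.Complex.Basic
import Mathlib.Analysis.Normed.Module.Connected
import Mathlib.LinearAlgebra.Complex.FiniteDimensional
import Mathlib.RingTheory.Polynomial.UniqueFactorization

/-!
# The root variety of an irreducible monic polynomial is connected
-/

open Filter Topology Polynomial

noncomputable section

namespace Groth.Agent.Lib.AnConn

open AnPts

/-- The complement of a hypersurface in `ℂⁿ` is path connected. -/
lemma isPreconnected_eval_ne_zero {n : ℕ} (g : MvPolynomial (Fin n) ℂ) :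
    IsPreconnected {z : Fin n → ℂ | MvPolynomial.eval z g ≠ 0} := by
  refine isPreconnected_of_forall_pair fun a ha b hb => ?_
  let L : ℂ → (Fin n → ℂ) := fun y => fun i => a i + y * (b i - a i)
  let P : ℂ[X] := MvPolynomial.eval₂ Polynomial.C
    (fun i => Polynomial.C (a i) + X * Polynomial.C (b i - a i)) g
  have hP : ∀ y, P.eval y = MvPolynomial.eval (L y) g := by
    intro y
    rw [← Polynomial.coe_evalRingHom, MvPolynomial.eval₂_comp_left]
    have : (Polynomial.evalRingHom y).comp Polynomial.C = RingHom.id ℂ := RingHom.ext fun x => by simp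
    rw [this, MvPolynomial.eval₂_id]
    congr 2
    funext i
    simp [L]
  have hP0 : P ≠ 0 := fun e => ha (by simpa [e, L] using (hP 0).symm)
  let S := L '' {y | P.eval y ≠ 0}
  refine ⟨S, ?_, ⟨0, ?_, by funext i; simp [L]⟩, ⟨1, ?_, by funext i; simp [L]⟩, ?_⟩
  · rintro _ ⟨y, hy, rfl⟩
    show MvPolynomial.eval (L y) g ≠ 0
    rwa [← hP]
  · show P.eval 0 ≠ 0
    rw [hP]
    simpa [L] using ha
  · show P.eval 1 ≠ 0
    rw [hP]
    simpa [L] using hb
  · refine IsPreconnected.image ?_ L (by fun_prop)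
    have : {y : ℂ | P.eval y ≠ 0} = {y | P.IsRoot y}ᶜ := rfl
    rw [this]
    exact ((Polynomial.finite_setOfPred_isRoot hP0).countable.isConnected_compl_of_one_lt_rank
      (by simp [Complex.rank_real_complex])).isPreconnected

/-- Evaluation of a polynomial grows polynomially. -/
lemma exists_growth {n : ℕ} (f : MvPolynomial (Fin n) ℂ) :
    ∃ (C : ℝ) (N : ℕ), 0 ≤ C ∧ ∀ z, ‖MvPolynomial.eval z f‖ ≤ C * (1 + ‖z‖) ^ N := by
  induction f using MvPolynomial.induction_on with
  | C a => exact ⟨‖a‖, 0, norm_nonneg a, fun z => by simp⟩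
  | add f g hf hg =>
    obtain ⟨C, N, hC, h⟩ := hf
    obtain ⟨C', N', hC', h'⟩ := hg
    refine ⟨C + C', N + N', by positivity, fun z => ?_⟩
    have h1 : (1 : ℝ) ≤ 1 + ‖z‖ := le_add_of_nonneg_right (norm_nonneg z)
    rw [map_add, add_mul]
    refine (norm_add_le _ _).trans (add_le_add ((h z).trans ?_) ((h' z).trans ?_))
    · exact mul_le_mul_of_nonneg_left (pow_le_pow_right₀ h1 (Nat.le_add_right _ _)) hC
    · exact mul_le_mul_of_nonneg_left (pow_le_pow_right₀ h1 (Nat.le_add_left _ _)) hC'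
  | mul_X f i hf =>
    obtain ⟨C, N, hC, h⟩ := hf
    refine ⟨C, N + 1, hC, fun z => ?_⟩
    rw [map_mul, MvPolynomial.eval_X, norm_mul, pow_succ, ← mul_assoc]
    exact mul_le_mul (h z) ((norm_le_pi_norm z i).trans (le_add_of_nonneg_left zero_le_one))
      (norm_nonneg _) (by positivity)

/-- Coefficient bound for a product of linear factors. -/
lemma norm_coeff_prod_le (S : Finset ℂ) {R : ℝ} (hR : 0 ≤ R) (hS : ∀ s ∈ S, ‖s‖ ≤ R) (k : ℕ) :
    ‖(∏ s ∈ S, (X - C s)).coeff k‖ ≤ (1 + R) ^ S.card := by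
  classical
  induction S using Finset.induction generalizing k with
  | empty => rcases k with _ | k <;> simp [coeff_one]
  | insert a S ha ih =>
    have ih' := ih fun s hs => hS s (Finset.mem_insert_of_mem hs)
    have ha' := hS a (Finset.mem_insert_self a S)
    rw [Finset.prod_insert ha, Finset.card_insert_of_notMem ha, pow_succ, sub_mul, coeff_sub,
      coeff_C_mul]
    refine (norm_sub_le _ _).trans ?_
    rw [norm_mul, mul_add, mul_one, mul_comm _ R]
    refine add_le_add ?_ (mul_le_mul ha' (ih' k) (norm_nonneg _) hR)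
    rcases k with _ | k
    · simpa using pow_nonneg (by linarith : (0 : ℝ) ≤ 1 + R) S.card
    · simpa using ih' k

/-- The coefficients of `∏ (X - r i)` are differentiable in the roots. -/
lemma differentiableAt_coeff_prod {E : Type*} [NormedAddCommGroup E] [NormedSpace ℂ E] {ι : Type*}
    (S : Finset ι) {r : ι → E → ℂ} {t₀ : E} (hr : ∀ i ∈ S, DifferentiableAt ℂ (r i) t₀) (k : ℕ) :
    DifferentiableAt ℂ (fun t => (∏ i ∈ S, (X - C (r i t))).coeff k) t₀ := by
  classical
  induction S using Finset.induction generalizing k with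
  | empty => simpa using differentiableAt_const _
  | insert a S ha ih =>
    have ih' := ih fun s hs => hr s (Finset.mem_insert_of_mem hs)
    simp only [Finset.prod_insert ha, sub_mul, coeff_sub, coeff_C_mul]
    refine DifferentiableAt.fun_sub ?_ ((hr a (Finset.mem_insert_self a S)).mul (ih' k))
    rcases k with _ | k
    · simpa using differentiableAt_const _
    · simpa using ih' k

variable {n : ℕ}

lemma differentiable_eval (f : MvPolynomial (Fin n) ℂ) :
    Differentiable ℂ (fun t => MvPolynomial.eval t f) := by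
  induction f using MvPolynomial.induction_on with
  | C a => simp
  | add f g hf hg => simp only [map_add]; exact hf.fun_add hg
  | mul_X f i hf => simp only [map_mul, MvPolynomial.eval_X]; exact hf.fun_mul (differentiable_apply i)

lemma continuous_eval_eval (q : (MvPolynomial (Fin n) ℂ)[X]) :
    Continuous fun z : (Fin n → ℂ) × ℂ => (q.map (MvPolynomial.eval z.1)).eval z.2 := by
  induction q using Polynomial.induction_on' with
  | add f g hf hg => simp only [Polynomial.map_add, eval_add]; exact hf.add hg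
  | monomial k a =>
    simp only [Polynomial.map_monomial, eval_monomial]
    exact ((MvPolynomial.continuous_eval a).comp continuous_fst).mul (continuous_snd.pow k)

/-- A simple root, followed continuously, is differentiable. -/
lemma differentiableAt_root (p : (MvPolynomial (Fin n) ℂ)[X]) {θ : (Fin n → ℂ) → ℂ} {t₀ : Fin n → ℂ}
    (hc : ContinuousAt θ t₀)
    (hroot : ∀ᶠ t in 𝓝 t₀, (p.map (MvPolynomial.eval t)).eval (θ t) = 0)
    (hsimple : ((derivative p).map (MvPolynomial.eval t₀)).eval (θ t₀) ≠ 0) :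
    DifferentiableAt ℂ θ t₀ := by
  set s₀ := θ t₀
  let a : MvPolynomial (Fin n) ℂ := MvPolynomial.C s₀
  obtain ⟨H, hH⟩ := X_sub_C_dvd_sub_C_eval (a := a) (p := p)
  have hev : ∀ t x, (p.map (MvPolynomial.eval t)).eval x - MvPolynomial.eval t (p.eval a) =
      (x - s₀) * (H.map (MvPolynomial.eval t)).eval x := by
    intro t x
    have := congrArg (fun q => (q.map (MvPolynomial.eval t)).eval x) hH
    simpa [a] using this
  have hp' : ((derivative p).map (MvPolynomial.eval t₀)).eval s₀ =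
      (H.map (MvPolynomial.eval t₀)).eval s₀ := by
    have := congrArg (fun q => ((derivative q).map (MvPolynomial.eval t₀)).eval s₀) hH
    simpa [a] using this
  rw [hp'] at hsimple
  let h : (Fin n → ℂ) → ℂ := fun t => (H.map (MvPolynomial.eval t)).eval (θ t)
  have hh : ContinuousAt h t₀ :=
    ContinuousAt.comp (g := fun z : (Fin n → ℂ) × ℂ => (H.map (MvPolynomial.eval z.1)).eval z.2)
      (f := fun t => (t, θ t)) (continuous_eval_eval H).continuousAt (continuousAt_id.prodMk hc)
  let u : (Fin n → ℂ) → ℂ := fun t => MvPolynomial.eval t (p.eval a)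
  have hu : DifferentiableAt ℂ u t₀ := differentiable_eval _ t₀
  have hu0 : u t₀ = 0 := by
    have h1 := hev t₀ s₀
    rw [hroot.self_of_nhds, sub_self, zero_mul, zero_sub, neg_eq_zero] at h1
    exact h1
  have heq : θ =ᶠ[𝓝 t₀] fun t => s₀ + u t * (-(h t)⁻¹) := by
    refine (hroot.and (hh.eventually_ne hsimple)).mono fun t ht => ?_
    have h1 := hev t (θ t)
    rw [ht.1, zero_sub] at h1
    change -u t = (θ t - s₀) * h t at h1
    have h2 : θ t - s₀ = u t * (-(h t)⁻¹) := by
      rw [mul_neg, ← neg_mul, h1, mul_assoc, mul_inv_cancel₀ ht.2, mul_one]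
    show θ t = s₀ + u t * -(h t)⁻¹
    rw [← h2]
    ring
  refine DifferentiableAt.congr_of_eventuallyEq (DifferentiableAt.const_add s₀ ?_) heq
  -- a differentiable function vanishing at the point times a continuous one
  have hm : ContinuousAt (fun t => -(h t)⁻¹) t₀ := (hh.inv₀ hsimple).neg
  obtain ⟨u', hu'⟩ := hu
  refine ⟨(-(h t₀)⁻¹) • u', hasFDerivAt_iff_isLittleO.2 ?_⟩
  have h1 := hasFDerivAt_iff_isLittleO.1 hu'
  simp only [hu0, zero_mul, sub_zero] at h1 ⊢
  have hm0 : (fun t => -(h t)⁻¹ - -(h t₀)⁻¹) =o[𝓝 t₀] (fun _ => (1 : ℂ)) :=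
    (Asymptotics.isLittleO_one_iff ℂ).2 (by simpa using hm.sub_const (-(h t₀)⁻¹))
  have hb : u =O[𝓝 t₀] fun t => t - t₀ := by
    simpa [hu0] using hu'.isBigO_sub
  have h2 : (fun t => (-(h t)⁻¹ - -(h t₀)⁻¹) * u t) =o[𝓝 t₀] fun t => t - t₀ := by
    refine Asymptotics.IsLittleO.of_norm_right ?_
    have h3 : (fun t => (-(h t)⁻¹ - -(h t₀)⁻¹) * u t) =o[𝓝 t₀] fun t => (1 : ℝ) * ‖t - t₀‖ :=
      (hm0.norm_right.congr_right fun _ => norm_one).mul_isBigO hb.norm_right
    exact h3.congr_right fun t => one_mul _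
  refine (h2.add (h1.const_smul_left (-(h t₀)⁻¹))).congr_left fun t => ?_
  simp only [FunLike.coe_smul, Pi.smul_apply, smul_eq_mul]
  ring

/-- The root variety of an irreducible monic polynomial over a region where it is separable is connected. -/
theorem isPreconnected_rootSet (p : (MvPolynomial (Fin n) ℂ)[X]) (hp : p.Monic) (hirr : Irreducible p)
    {g : MvPolynomial (Fin n) ℂ} (hg : g ≠ 0)
    (hsimple : ∀ t s, MvPolynomial.eval t g ≠ 0 → (p.map (MvPolynomial.eval t)).eval s = 0 →
      ((derivative p).map (MvPolynomial.eval t)).eval s ≠ 0) :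
    IsPreconnected {z : (Fin n → ℂ) × ℂ |
      MvPolynomial.eval z.1 g ≠ 0 ∧ (p.map (MvPolynomial.eval z.1)).eval z.2 = 0} := by
  classical
  set V := {z : (Fin n → ℂ) × ℂ |
    MvPolynomial.eval z.1 g ≠ 0 ∧ (p.map (MvPolynomial.eval z.1)).eval z.2 = 0}
  set B := {t : Fin n → ℂ | MvPolynomial.eval t g ≠ 0} with hBdef
  have hB : IsOpen B := isOpen_ne.preimage (MvPolynomial.continuous_eval g)
  set d := p.natDegree with hddef
  let pt : (Fin n → ℂ) → ℂ[X] := fun t => p.map (MvPolynomial.eval t)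
  have hptm : ∀ t, (pt t).Monic := fun t => hp.map _
  have hptd : ∀ t, (pt t).natDegree = d := fun t => hp.natDegree_map _
  have hd0 : 0 < d := by
    rcases Nat.eq_zero_or_pos d with h | h
    · exact absurd (Polynomial.eq_one_of_monic_natDegree_zero hp h) hirr.ne_one
    · exact h
  have hnodup : ∀ t ∈ B, (pt t).roots.Nodup := by
    intro t ht
    refine Multiset.nodup_iff_count_le_one.2 fun s => ?_
    rw [count_roots]
    by_contra hcon
    have hlt : 1 < (pt t).rootMultiplicity s := not_le.1 hcon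
    obtain ⟨h1, h2⟩ := (one_lt_rootMultiplicity_iff_isRoot (hptm t).ne_zero).1 hlt
    refine hsimple t s ht h1 ?_
    rw [← derivative_map]
    exact h2
  let roots : (Fin n → ℂ) → Finset ℂ := fun t => (pt t).roots.toFinset
  have hmem : ∀ t s, s ∈ roots t ↔ (pt t).eval s = 0 := fun t s => by
    rw [Multiset.mem_toFinset, mem_roots (hptm t).ne_zero]
    exact Iff.rfl
  have hcard : ∀ t ∈ B, (roots t).card = d := fun t ht => by
    rw [Multiset.toFinset_card_of_nodup (hnodup t ht), ← (IsAlgClosed.splits _).natDegree_eq_card_roots,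
      hptd]
  refine isPreconnected_iff_preconnectedSpace.2 ⟨?_⟩
  refine isPreconnected_iff_subset_of_disjoint.2 fun u v hu hv huv hdisj => ?_
  rw [Set.univ_inter] at hdisj
  have hclopen : IsClopen u := by
    refine ⟨?_, hu⟩
    have : uᶜ = v := Set.Subset.antisymm
      (fun z hz => (huv (Set.mem_univ z)).resolve_left hz)
      (fun z hz hzu => by rw [Set.eq_empty_iff_forall_notMem] at hdisj; exact hdisj z ⟨hzu, hz⟩)
    rw [← isOpen_compl_iff, this]
    exact hv
  let M : (Fin n → ℂ) → ℂ → Prop := fun t s => ∃ h : (t, s) ∈ V, (⟨(t, s), h⟩ : V) ∈ u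
  let Us : (Fin n → ℂ) → Finset ℂ := fun t => (roots t).filter (M t)
  let q : (Fin n → ℂ) → ℂ[X] := fun t => ∏ s ∈ Us t, (X - C s)
  -- local structure over the base
  have hlocal : ∀ t₀ ∈ B, ∃ r : ℂ → (Fin n → ℂ) → ℂ,
      (∀ s ∈ roots t₀, ContinuousAt (r s) t₀ ∧ r s t₀ = s ∧ DifferentiableAt ℂ (r s) t₀) ∧
      (∀ᶠ t in 𝓝 t₀, Set.InjOn (fun s => r s t) (roots t₀) ∧
        Us t = (Us t₀).image (fun s => r s t)) := by
    intro t₀ ht₀
    obtain ⟨ε, hε, hsep⟩ : ∃ ε > 0, ∀ s ∈ roots t₀, ∀ s' ∈ roots t₀, s ≠ s' → 2 * ε ≤ ‖s - s'‖ := by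
      have h1 : ∀ x ∈ (roots t₀).offDiag, ∀ᶠ ε in 𝓝[>] (0 : ℝ), 2 * ε ≤ ‖x.1 - x.2‖ := by
        intro x hx
        have hpos : 0 < ‖x.1 - x.2‖ :=
          norm_pos_iff.2 (sub_ne_zero.2 (Finset.mem_offDiag.1 hx).2.2)
        filter_upwards [Ioo_mem_nhdsGT (half_pos hpos)] with ε hε
        linarith [hε.2]
      obtain ⟨ε, hε, hpos⟩ := (((Finset.eventually_all _).2 h1).and self_mem_nhdsWithin).exists
      exact ⟨ε, hpos, fun s hs s' hs' hne => hε (s, s') (Finset.mem_offDiag.2 ⟨hs, hs', hne⟩)⟩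
    -- the nearest root
    have hnear : ∀ (s : ℂ) (t : Fin n → ℂ), ∃ r, (pt t).eval r = 0 ∧
        ∀ r', (pt t).eval r' = 0 → ‖s - r‖ ≤ ‖s - r'‖ := by
      intro s t
      obtain ⟨r₀, hr₀⟩ := IsAlgClosed.exists_root (pt t) (by
        rw [degree_eq_natDegree (hptm t).ne_zero, hptd]; exact_mod_cast hd0.ne')
      obtain ⟨r, hr, hmin⟩ := Finset.exists_min_image (roots t) (fun r => ‖s - r‖) ⟨r₀, (hmem t r₀).2 hr₀⟩
      exact ⟨r, (hmem t r).1 hr, fun r' hr' => hmin r' ((hmem t r').2 hr')⟩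
    choose r hr0 hrmin using hnear
    have hclose : ∀ s ∈ roots t₀, ∀ δ > 0, ∀ᶠ t in 𝓝 t₀, ‖s - r s t‖ < δ := by
      intro s hs δ hδ
      have hc : Continuous fun t => (pt t).eval s :=
        (continuous_eval_eval p).comp (continuous_id.prodMk continuous_const)
      have h0 : Tendsto (fun t => ‖(pt t).eval s‖) (𝓝 t₀) (𝓝 0) := by
        have := (hc.tendsto t₀).norm
        rwa [(hmem t₀ s).1 hs, norm_zero] at this
      refine (h0.eventually (gt_mem_nhds (pow_pos hδ d))).mono fun t ht => ?_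
      obtain ⟨r', hr', hd⟩ := exists_root_near (hptm t) (by rw [hptd]; exact hd0) hδ.le (a := s)
        (by rw [hptd]; exact ht)
      exact (hrmin s t r' hr').trans_lt hd
    have hrt₀ : ∀ s ∈ roots t₀, r s t₀ = s := by
      intro s hs
      have h1 := hrmin s t₀ s ((hmem t₀ s).1 hs)
      rw [sub_self, norm_zero] at h1
      exact (sub_eq_zero.1 (norm_le_zero_iff.1 h1)).symm
    have hcont : ∀ s ∈ roots t₀, ContinuousAt (r s) t₀ := by
      intro s hs
      refine Metric.tendsto_nhds.2 fun δ hδ => (hclose s hs δ hδ).mono fun t ht => ?_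
      rwa [hrt₀ s hs, dist_comm, dist_eq_norm]
    refine ⟨r, fun s hs => ⟨hcont s hs, hrt₀ s hs, differentiableAt_root p (hcont s hs)
      (Eventually.of_forall fun t => hr0 s t) (by
        rw [hrt₀ s hs]; exact hsimple t₀ s ht₀ ((hmem t₀ s).1 hs))⟩, ?_⟩
    -- membership is locally constant along the roots
    have hM : ∀ s ∈ roots t₀, ∀ᶠ t in 𝓝 t₀, (M t (r s t) ↔ M t₀ s) := by
      intro s hs
      have hV : (t₀, s) ∈ V := ⟨ht₀, (hmem t₀ s).1 hs⟩
      have hlc : ∀ᶠ z in 𝓝 (⟨(t₀, s), hV⟩ : V), (z ∈ u ↔ (⟨(t₀, s), hV⟩ : V) ∈ u) := by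
        by_cases hu' : (⟨(t₀, s), hV⟩ : V) ∈ u
        · filter_upwards [hu.mem_nhds hu'] with z hz using ⟨fun _ => hu', fun _ => hz⟩
        · filter_upwards [hclopen.1.isOpen_compl.mem_nhds hu'] with z hz using
            ⟨fun h => absurd h hz, fun h => absurd h hu'⟩
      rw [nhds_subtype, eventually_comap] at hlc
      have hT : Tendsto (fun t => (t, r s t)) (𝓝 t₀) (𝓝 (t₀, s)) := by
        have := continuousAt_id.prodMk (hcont s hs)
        simpa [ContinuousAt, hrt₀ s hs] using this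
      refine ((hT.eventually hlc).and (hB.mem_nhds ht₀)).mono fun t ht => ?_
      have hVt : (t, r s t) ∈ V := ⟨ht.2, hr0 s t⟩
      have := ht.1 ⟨(t, r s t), hVt⟩ rfl
      exact ⟨fun ⟨_, h⟩ => ⟨hV, this.1 h⟩, fun ⟨_, h⟩ => ⟨hVt, this.2 h⟩⟩
    filter_upwards [hB.mem_nhds ht₀, (Finset.eventually_all _).2 hM,
      (Finset.eventually_all _).2 fun s hs => hclose s hs ε hε] with t ht hMt hcl
    have hinj : Set.InjOn (fun s => r s t) (roots t₀) := by
      intro s hs s' hs' (e : r s t = r s' t)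
      by_contra hne
      have h1 := hsep s hs s' hs' hne
      have h2 := hcl s hs
      have h3 := hcl s' hs'
      rw [e] at h2
      have : ‖s - s'‖ ≤ ‖s - r s' t‖ + ‖s' - r s' t‖ := by
        rw [norm_sub_rev s' _]; exact norm_sub_le_norm_sub_add_norm_sub _ _ _
      linarith
    refine ⟨hinj, ?_⟩
    have himg : (roots t₀).image (fun s => r s t) = roots t := by
      refine Finset.eq_of_subset_of_card_le ?_ ?_
      · intro x hx
        obtain ⟨s, -, rfl⟩ := Finset.mem_image.1 hx
        exact (hmem t _).2 (hr0 s t)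
      · rw [Finset.card_image_of_injOn hinj, hcard t ht, hcard t₀ ht₀]
    show (roots t).filter (M t) = ((roots t₀).filter (M t₀)).image _
    rw [← himg, Finset.filter_image]
    congr 1
    exact Finset.filter_congr hMt
  -- the number of chosen roots is constant
  have hconst : ∀ t ∈ B, ∀ t' ∈ B, (Us t).card = (Us t').card := by
    intro t ht t' ht'
    refine (isPreconnected_eval_ne_zero g).constant (f := fun t => (Us t).card) ?_ ht ht'
    intro t₀ ht₀
    obtain ⟨r, -, hev⟩ := hlocal t₀ ht₀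
    refine ContinuousAt.continuousWithinAt ?_
    refine (continuousAt_const (y := (Us t₀).card)).congr (hev.mono fun t ht => ?_)
    show (Us t₀).card = (Us t).card
    rw [ht.2, Finset.card_image_of_injOn (ht.1.mono fun s hs => Finset.filter_subset _ _ hs)]
  have hBne : B.Nonempty := (dense_eval_ne_zero hg).nonempty
  obtain ⟨b₀, hb₀⟩ := hBne
  set d₁ := (Us b₀).card
  -- the coefficients of `q` are polynomials
  have hqdiff : ∀ k, DifferentiableOn ℂ (fun t => (q t).coeff k) B := by
    intro k t₀ ht₀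
    obtain ⟨r, hr, hev⟩ := hlocal t₀ ht₀
    refine DifferentiableAt.differentiableWithinAt ?_
    refine (differentiableAt_coeff_prod (Us t₀) (r := r)
      (fun s hs => (hr s (Finset.filter_subset _ _ hs)).2.2) k).congr_of_eventuallyEq
      (hev.mono fun t ht => ?_)
    show (∏ s ∈ Us t, (X - C s)).coeff k = _
    rw [ht.2, Finset.prod_image (ht.1.mono fun s hs => Finset.filter_subset _ _ hs)]
  obtain ⟨K, N, hK, hKN⟩ : ∃ (K : ℝ) (N : ℕ), 0 ≤ K ∧ ∀ t, ∀ s ∈ roots t, ‖s‖ ≤ K * (1 + ‖t‖) ^ N := by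
    choose Cs Ns hCs hgr using fun i => exists_growth (p.coeff i)
    refine ⟨1 + ∑ i ∈ Finset.range d, Cs i, ∑ i ∈ Finset.range d, Ns i,
      by have := Finset.sum_nonneg fun i (_ : i ∈ Finset.range d) => hCs i; linarith, fun t s hs => ?_⟩
    refine (norm_le_of_monic_root (hptm t) ((hmem t s).1 hs)).trans ?_
    have h1 : (1 : ℝ) ≤ 1 + ‖t‖ := le_add_of_nonneg_right (norm_nonneg t)
    rw [hptd, add_mul, one_mul, Finset.sum_mul]
    refine add_le_add (one_le_pow₀ h1) (Finset.sum_le_sum fun i hi => ?_)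
    rw [coeff_map]
    exact (hgr i t).trans (mul_le_mul_of_nonneg_left
      (pow_le_pow_right₀ h1 (Finset.single_le_sum (fun j _ => Nat.zero_le _) hi)) (hCs i))
  have hqgrow : ∀ k t, MvPolynomial.eval t g ≠ 0 →
      ‖(q t).coeff k‖ ≤ (1 + K) ^ d₁ * (1 + ‖t‖) ^ (N * d₁) := by
    intro k t ht
    have hKt : 0 ≤ K * (1 + ‖t‖) ^ N := by positivity
    refine (norm_coeff_prod_le (Us t) hKt (fun s hs => hKN t s (Finset.filter_subset _ _ hs)) k).trans ?_
    rw [hconst t ht b₀ hb₀, pow_mul, ← mul_pow]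
    refine pow_le_pow_left₀ (by positivity) ?_ _
    rw [add_mul, one_mul]
    exact add_le_add (one_le_pow₀ (le_add_of_nonneg_right (norm_nonneg t))) le_rfl
  choose Q hQ using fun k => exists_mvPolynomial_of_growth n hg (hqdiff k) (by positivity) (hqgrow k)
  let Qp : (MvPolynomial (Fin n) ℂ)[X] := X ^ d₁ + ∑ k ∈ Finset.range d₁, C (Q k) * X ^ k
  have hQdeg : (∑ k ∈ Finset.range d₁, C (Q k) * X ^ k).degree < (d₁ : WithBot ℕ) := by
    refine (degree_sum_le _ _).trans_lt ((Finset.sup_lt_iff (WithBot.bot_lt_coe _)).2 fun k hk => ?_)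
    exact (degree_C_mul_X_pow_le _ _).trans_lt (by exact_mod_cast Finset.mem_range.1 hk)
  have hQm : Qp.Monic := monic_X_pow_add hQdeg
  have hQd : Qp.natDegree = d₁ := by
    refine natDegree_eq_of_degree_eq_some ?_
    show (X ^ d₁ + _ : (MvPolynomial (Fin n) ℂ)[X]).degree = _
    rw [degree_add_eq_left_of_degree_lt] <;> rw [degree_X_pow]
    exact hQdeg
  have hQeval : ∀ t ∈ B, Qp.map (MvPolynomial.eval t) = q t := by
    intro t ht
    have hqm : (q t).Monic := monic_prod_of_monic _ _ fun s _ => monic_X_sub_C s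
    have hqd : (q t).natDegree = d₁ := by
      rw [natDegree_prod_of_monic _ _ fun s _ => monic_X_sub_C s]
      simp [hconst t ht b₀ hb₀, d₁]
    conv_rhs => rw [hqm.as_sum, hqd]
    simp only [Qp, Polynomial.map_add, Polynomial.map_pow, map_X, Polynomial.map_sum, Polynomial.map_mul,
      map_C]
    exact congrArg (X ^ d₁ + ·) (Finset.sum_congr rfl fun k _ => by rw [hQ k t ht])
  have hdvd : Qp ∣ p := by
    rw [← modByMonic_eq_zero_iff_dvd hQm]
    refine Polynomial.ext fun k => ?_
    rw [coeff_zero]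
    have hzero : ∀ t ∈ B, MvPolynomial.eval t ((p %ₘ Qp).coeff k) = 0 := by
      intro t ht
      rw [← coeff_map, map_modByMonic _ hQm, hQeval t ht]
      have hd' : q t ∣ pt t := by
        refine (Multiset.prod_X_sub_C_dvd_iff_le_roots (hptm t).ne_zero (Us t).1).2 ?_
        refine (Multiset.le_iff_subset (Us t).2).2 fun x hx => ?_
        exact Multiset.mem_toFinset.1 (Finset.filter_subset _ _ hx)
      have hqm : (q t).Monic := monic_prod_of_monic _ _ fun s _ => monic_X_sub_C s
      rw [(modByMonic_eq_zero_iff_dvd hqm).2 hd', coeff_zero]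
    by_contra hne
    obtain ⟨t, htg, htk⟩ : ∃ t, MvPolynomial.eval t g ≠ 0 ∧ MvPolynomial.eval t ((p %ₘ Qp).coeff k) ≠ 0 := by
      obtain ⟨t, ht⟩ := (dense_eval_ne_zero (mul_ne_zero hg hne)).nonempty
      exact ⟨t, by simpa [map_mul, mul_ne_zero_iff] using ht⟩
    exact htk (hzero t htg)
  -- irreducibility
  obtain ⟨c, hc⟩ := hdvd
  have hall : d₁ = 0 ∨ d₁ = d := by
    rcases hirr.isUnit_or_isUnit hc with hu | hu
    · exact Or.inl (hQd ▸ natDegree_eq_zero_of_isUnit hu)
    · refine Or.inr ?_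
      have hc0 : c ≠ 0 := hu.ne_zero
      show d₁ = p.natDegree
      rw [hc, natDegree_mul hQm.ne_zero hc0, hQd, natDegree_eq_zero_of_isUnit hu, add_zero]
  rcases hall with h | h
  · refine Or.inr fun z _ => (huv (Set.mem_univ z)).resolve_left fun hz => ?_
    obtain ⟨⟨t, s⟩, ht, hs⟩ := z
    have : s ∈ Us t := Finset.mem_filter.2 ⟨(hmem t s).2 hs, ⟨⟨ht, hs⟩, hz⟩⟩
    rw [Finset.card_eq_zero.1 ((hconst t ht b₀ hb₀).trans h)] at this
    simp at this
  · refine Or.inl fun z _ => ?_
    obtain ⟨⟨t, s⟩, ht, hs⟩ := z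
    have he : Us t = roots t := Finset.eq_of_subset_of_card_le (Finset.filter_subset _ _)
      (by rw [hcard t ht, hconst t ht b₀ hb₀]; exact h.ge)
    obtain ⟨_, hz⟩ := (Finset.mem_filter.1 (he ▸ (hmem t s).2 hs : s ∈ Us t)).2
    exact hz

end Groth.Agent.Lib.AnConn
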