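import Groth.Agent.Lib.AnConn.Connected
import Mathlib.Analysis.Complex.CoveringMap
import Mathlib.Topology.Homotopy.Lifting
import Mathlib.FieldTheory.Minpoly.IsConjRoot
import Mathlib.FieldTheory.IsAlgClosed.AlgebraicClosure
import Mathlib.FieldTheory.Normal.Basic
import Mathlib.FieldTheory.KummerPolynomial
import Mathlib.RingTheory.AlgebraicIndependent.TranscendenceBasis
import Mathlib.RingTheory.AlgebraicIndependent.Adjoin
import Mathlib.RingTheory.RootsOfUnity.Complex
import Mathlib.Algebra.MvPolynomial.Division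
import Mathlib.Topology.Separation.Connected

/-!
# Regular functions with a logarithm are constant
-/

open AlgebraicGeometry CategoryTheory TopologicalSpace Opposite Topology

noncomputable section

namespace Groth.Agent.Lib.AnConn

open An AnPts

/-- An element of a finitely generated field extension of ℂ with roots of all prime orders is constant. -/
lemma exists_eq_algebraMap_of_roots (R : Type) [CommRing R] [IsDomain R] [Algebra ℂ R]
    [Algebra.FiniteType ℂ R] (a : R)
    (hroots : ∀ p : ℕ, p.Prime → ∃ w : FractionRing R, w ^ p = algebraMap R _ a) :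
    ∃ c : ℂ, a = algebraMap ℂ R c := by
  classical
  let K := FractionRing R
  let α : K := algebraMap R K a
  by_contra hne
  have htr : Transcendental ℂ α := by
    intro halg
    obtain ⟨c, hc⟩ := minpoly.mem_range_of_degree_eq_one ℂ α
      (IsAlgClosed.degree_eq_one_of_irreducible ℂ (minpoly.irreducible halg.isIntegral))
    refine hne ⟨c, IsFractionRing.injective R K ?_⟩
    rw [← IsScalarTower.algebraMap_apply]
    exact hc.symm
  have hind : AlgebraicIndepOn ℂ id ({α} : Set K) := by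
    rw [AlgebraicIndepOn, algebraicIndependent_unique_type_iff]
    exact htr
  obtain ⟨s, hαs, hs⟩ := exists_isTranscendenceBasis_superset hind
  set k := IntermediateField.adjoin ℂ (Set.range (Subtype.val : s → K)) with hk
  have halg : Algebra.IsAlgebraic k K := hs.isAlgebraic_field
  obtain ⟨G, hG⟩ := Algebra.FiniteType.out (R := ℂ) (A := R)
  have : FiniteDimensional k K := by
    have htop : IntermediateField.adjoin k ((G.image (algebraMap R K) : Finset K) : Set K) = ⊤ := by
      rw [eq_top_iff]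
      intro x _
      obtain ⟨r, t, -, rfl⟩ := IsFractionRing.div_surjective R (K := K) x
      have hmem : ∀ r : R, algebraMap R K r ∈
          IntermediateField.adjoin k ((G.image (algebraMap R K) : Finset K) : Set K) := by
        intro r
        have hr : r ∈ Algebra.adjoin ℂ (G : Set R) := hG ▸ Algebra.mem_top
        induction hr using Algebra.adjoin_induction with
        | mem y hy => exact IntermediateField.subset_adjoin _ _ (by rw [Finset.coe_image]; exact ⟨y, hy, rfl⟩)
        | algebraMap c =>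
          rw [← IsScalarTower.algebraMap_apply, IsScalarTower.algebraMap_apply ℂ k K]
          exact IntermediateField.algebraMap_mem _ _
        | add y z _ _ hy hz => rw [map_add]; exact add_mem hy hz
        | mul y z _ _ hy hz => rw [map_mul]; exact mul_mem hy hz
      exact div_mem (hmem r) (hmem t)
    have hfd := IntermediateField.finiteDimensional_adjoin (K := k)
      (S := ((G.image (algebraMap R K) : Finset K) : Set K)) (fun x _ => (halg.1 x).isIntegral)
    rw [htop] at hfd
    exact Module.Finite.equiv (IntermediateField.topEquiv (F := k) (E := K)).toLinearEquiv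
  obtain ⟨p, hpn, hp⟩ := Nat.exists_infinite_primes (Module.finrank k K + 1)
  obtain ⟨w, hw⟩ := hroots p hp
  let α' : k := ⟨α, IntermediateField.subset_adjoin _ _ ⟨⟨α, hαs rfl⟩, rfl⟩⟩
  -- `α` is not a `p`-th power in `k`
  have hnot : ∀ b : k, b ^ p ≠ α' := by
    intro b hb
    let e := hs.1.aevalEquivField
    let i : s := ⟨α, hαs rfl⟩
    let Fr := FractionRing (MvPolynomial s ℂ)
    have he : e (algebraMap (MvPolynomial s ℂ) Fr (MvPolynomial.X i)) = α' := by
      refine Subtype.ext ?_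
      exact (hs.1.aevalEquivField_algebraMap_apply_coe _).trans (MvPolynomial.aeval_X _ _)
    let b' : Fr := e.symm b
    have hb' : b' ^ p = algebraMap (MvPolynomial s ℂ) Fr (MvPolynomial.X i) := by
      rw [← map_pow, hb, ← he, AlgEquiv.symm_apply_apply]
    have hint : IsIntegral (MvPolynomial s ℂ) b' := by
      refine IsIntegral.of_pow hp.pos ?_
      rw [hb']
      exact isIntegral_algebraMap
    obtain ⟨f, hf⟩ := IsIntegrallyClosed.isIntegral_iff.1 hint
    rw [← hf, ← map_pow] at hb'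
    have hX : f ^ p = MvPolynomial.X i := IsFractionRing.injective _ Fr hb'
    have hirr : Irreducible (MvPolynomial.X i : MvPolynomial s ℂ) :=
      (MvPolynomial.X_prime (i := i)).irreducible
    rw [← hX] at hirr
    exact not_irreducible_pow hp.ne_one hirr
  have hirr := X_pow_sub_C_irreducible_of_prime hp hnot
  have hmin : (Polynomial.X ^ p - Polynomial.C α') = minpoly k w := by
    refine minpoly.eq_of_irreducible_of_monic hirr ?_ (Polynomial.monic_X_pow_sub_C _ hp.ne_zero)
    rw [map_sub, map_pow, Polynomial.aeval_X, Polynomial.aeval_C, hw, sub_eq_zero]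
    rfl
  have h1 : (minpoly k w).natDegree ≤ Module.finrank k K := minpoly.natDegree_le w
  rw [← hmin, Polynomial.natDegree_X_pow_sub_C] at h1
  omega

/-- A regular function on an integral affine variety with a continuous logarithm is constant. -/
theorem exists_const_of_exp (R : Type) [CommRing R] [IsDomain R] [Algebra ℂ R]
    [Algebra.FiniteType ℂ R] (a : R) (h : charSet R → ℂ) (hh : Continuous h)
    (hexp : ∀ v : charSet R, Complex.exp (h v) = v.1 a) :
    ∃ c : ℂ, ∀ φ : R →ₐ[ℂ] ℂ, φ a = c := by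
  classical
  let K := FractionRing R
  let L := AlgebraicClosure K
  suffices hroots : ∀ p : ℕ, p.Prime → ∃ w : K, w ^ p = algebraMap R K a by
    obtain ⟨c, hc⟩ := exists_eq_algebraMap_of_roots R a hroots
    exact ⟨c, fun φ => by rw [hc, φ.commutes]; rfl⟩
  intro p hp
  have : CharZero K := charZero_of_injective_algebraMap (R := ℂ) (algebraMap ℂ K).injective
  obtain ⟨w, hw⟩ := IsAlgClosed.exists_pow_nat_eq (algebraMap R L a) hp.pos
  by_contra hcon
  have hwK : w ∉ (⊥ : Subalgebra K L) := fun hmem => by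
    obtain ⟨x, hx⟩ := Algebra.mem_bot.1 hmem
    refine hcon ⟨x, (algebraMap K L).injective ?_⟩
    rw [map_pow, hx, hw, IsScalarTower.algebraMap_apply R K L]
  obtain ⟨w', hne, hconj⟩ := (notMem_iff_exists_ne_and_isConjRoot
    (minpoly.irreducible (Algebra.IsIntegral.isIntegral (R := K) w)).separable
    (IsAlgClosed.splits _)).1 hwK
  obtain ⟨σ, hσ⟩ := isConjRoot_iff_exists_algEquiv.1 hconj
  -- `σ w' = w`, and `w'` is `w` times a root of unity
  let σ' : L →ₐ[R] L := (σ.symm : L →ₐ[K] L).restrictScalars R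
  have hσ' : σ' w = w' := by
    show σ.symm w = w'
    rw [← hσ, AlgEquiv.symm_apply_apply]
  have hw' : w' ^ p = algebraMap R L a := by rw [← hσ', ← map_pow, hw, σ'.commutes]
  let R' := Algebra.adjoin R ({w} : Set L)
  have hft : Algebra.FiniteType ℂ R' :=
    Algebra.FiniteType.trans (R := ℂ) (S := R) inferInstance
      ((Subalgebra.fg_iff_finiteType R').1 ⟨{w}, by rw [Finset.coe_singleton]⟩)
  let res : (R' →ₐ[ℂ] ℂ) → (R →ₐ[ℂ] ℂ) := fun ψ => ψ.comp (IsScalarTower.toAlgHom ℂ R R')
  let ww : R' := ⟨w, Algebra.self_mem_adjoin_singleton R w⟩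
  have ha0 : ∀ φ : R →ₐ[ℂ] ℂ, φ a ≠ 0 := fun φ => by
    have := Complex.exp_ne_zero (h ⟨_, φ, rfl⟩)
    rwa [hexp] at this
  have hww : ww ^ p = algebraMap R R' a := Subtype.ext hw
  have hrest : ∀ v : charSet R', (fun r => v.1 (algebraMap R R' r)) ∈ charSet R := by
    rintro ⟨_, ψ, rfl⟩
    exact ⟨res ψ, rfl⟩
  let ratio : charSet R' → ℂ := fun v =>
    v.1 ww / Complex.exp (h ⟨_, hrest v⟩ / p)
  have hratio : ∀ v, ratio v ^ p = 1 := by
    rintro ⟨_, ψ, rfl⟩
    have hp0 : (p : ℂ) ≠ 0 := Nat.cast_ne_zero.2 hp.ne_zero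
    simp only [ratio, div_pow, ← Complex.exp_nat_mul, mul_div_cancel₀ _ hp0, hexp, ← map_pow, hww]
    exact div_self (ha0 (res ψ))
  have hcont : Continuous ratio := by
    refine ((continuous_apply ww).comp continuous_subtype_val).div
      (Complex.continuous_exp.comp ((hh.comp ?_).div_const _)) fun v => Complex.exp_ne_zero _
    refine Continuous.subtype_mk (continuous_pi fun r => ?_) _
    exact Continuous.comp (g := fun v : R' → ℂ => v (algebraMap R R' r))
      (continuous_apply _) continuous_subtype_val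
  have hfin : {z : ℂ | z ^ p = 1}.Finite := by
    refine (Polynomial.finite_setOfPred_isRoot
      (Polynomial.X_pow_sub_C_ne_zero hp.pos (1 : ℂ))).subset fun z hz => ?_
    simpa [sub_eq_zero] using hz
  have : PreconnectedSpace (charSet R') :=
    isPreconnected_iff_preconnectedSpace.1 (isPreconnected_charSet R')
  have hconst : ∀ v v', ratio v = ratio v' := by
    intro v v'
    have hsub : (Set.range ratio).Finite := hfin.subset (Set.range_subset_iff.2 hratio)
    by_contra hne'
    exact hsub.not_infinite ((isPreconnected_range hcont).infinite_of_nontrivial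
      ⟨_, ⟨v, rfl⟩, _, ⟨v', rfl⟩, hne'⟩)
  -- the root of unity
  obtain ⟨ζ, hζp, hζ⟩ : ∃ ζ : ℂ, ζ ^ p = 1 ∧ algebraMap ℂ L ζ * w = w' := by
    have hw0 : w ≠ 0 := fun e => by
      obtain ⟨ψ, -⟩ : ∃ ψ : R →ₐ[ℂ] ℂ, True := by
        obtain ⟨m, hm⟩ := Ideal.exists_maximal R
        let := Ideal.Quotient.field m
        have : Module.Finite ℂ (R ⧸ m) := finite_of_finite_type_of_isJacobsonRing ℂ (R ⧸ m)
        exact ⟨((AlgEquiv.ofBijective (Algebra.ofId ℂ (R ⧸ m))
          IsAlgClosed.algebraMap_bijective_of_isIntegral).symm : (R ⧸ m) →ₐ[ℂ] ℂ).comp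
            (Ideal.Quotient.mkₐ ℂ m), trivial⟩
      rw [e, zero_pow hp.ne_zero, eq_comm] at hw
      have : a = 0 := by
        rw [IsScalarTower.algebraMap_apply R K L, map_eq_zero] at hw
        exact IsFractionRing.injective R K (by rw [hw, map_zero])
      exact ha0 ψ (by rw [this, map_zero])
    have hμ : IsPrimitiveRoot (algebraMap ℂ L (Complex.exp (2 * Real.pi * Complex.I / p))) p :=
      (Complex.isPrimitiveRoot_exp p hp.ne_zero).map_of_injective (algebraMap ℂ L).injective
    have : NeZero p := ⟨hp.ne_zero⟩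
    obtain ⟨i, -, hi⟩ := hμ.eq_pow_of_pow_eq_one (show (w' / w) ^ p = 1 by
      rw [div_pow, hw, hw', div_self (by rw [← hw]; exact pow_ne_zero _ hw0)])
    refine ⟨Complex.exp (2 * Real.pi * Complex.I / p) ^ i, ?_, ?_⟩
    · rw [← pow_mul, mul_comm i p, pow_mul, (Complex.isPrimitiveRoot_exp p hp.ne_zero).pow_eq_one, one_pow]
    · rw [map_pow, hi, div_mul_cancel₀ _ hw0]
  -- `σ'` preserves `R'`
  have hmap : ∀ x : R', σ' x ∈ R' := by
    intro x
    have h1 : σ' x ∈ R'.map σ' := ⟨x, x.2, rfl⟩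
    rw [AlgHom.map_adjoin, Set.image_singleton, hσ'] at h1
    refine Algebra.adjoin_le (Set.singleton_subset_iff.2 ?_) h1
    rw [← hζ, IsScalarTower.algebraMap_apply ℂ R L]
    exact mul_mem (Subalgebra.algebraMap_mem _ _) (Algebra.self_mem_adjoin_singleton R w)
  let τ : R' →ₐ[R] R' := (σ'.comp R'.val).codRestrict R' hmap
  have hτ : τ ww = algebraMap ℂ R' ζ * ww := Subtype.ext (by
    show σ' w = _
    rw [hσ', ← hζ]
    rfl)
  obtain ⟨ψ, -⟩ : ∃ ψ : R' →ₐ[ℂ] ℂ, True := by
    obtain ⟨m, hm⟩ := Ideal.exists_maximal R'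
    let := Ideal.Quotient.field m
    have : Module.Finite ℂ (R' ⧸ m) := finite_of_finite_type_of_isJacobsonRing ℂ (R' ⧸ m)
    exact ⟨((AlgEquiv.ofBijective (Algebra.ofId ℂ (R' ⧸ m))
      IsAlgClosed.algebraMap_bijective_of_isIntegral).symm : (R' ⧸ m) →ₐ[ℂ] ℂ).comp
        (Ideal.Quotient.mkₐ ℂ m), trivial⟩
  have key := hconst ⟨_, ψ, rfl⟩ ⟨_, ψ.comp (τ.restrictScalars ℂ), rfl⟩
  simp only [ratio, AlgHom.comp_apply, AlgHom.restrictScalars_apply, τ.commutes, hτ, map_mul,
    AlgHom.commutes] at key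
  rw [div_left_inj' (Complex.exp_ne_zero _)] at key
  have hψ0 : ψ ww ≠ 0 := fun e => by
    have := congrArg ψ hww
    rw [map_pow, e, zero_pow hp.ne_zero] at this
    exact ha0 (res ψ) this.symm
  have hζ1 : ζ = 1 := by
    refine mul_right_cancel₀ hψ0 ?_
    rw [one_mul]
    exact key.symm
  rw [hζ1, map_one, one_mul] at hζ
  exact hne hζ

variable {X : Scheme.{0}} [X.Over SC] [LocallyOfFiniteType (X ↘ SC)]

lemma evTop_eq_of_exp_affine [IsAffine X] (η : X) (f : Γ(X, ⊤)) (h : Pts X → ℂ) (hh : Continuous h)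
    (hexp : ∀ x, Complex.exp (h x) = x.evTop f) {x y : Pts X} (hx : η ⤳ x.pt) (hy : η ⤳ y.pt) :
    x.evTop f = y.evTop f := by
  let := (strHom X).toAlgebra
  have hft : Algebra.FiniteType ℂ Γ(X, ⊤) := finiteType_strHom X
  let q := (isAffineOpen_top X).primeIdealOf ⟨η, Opens.mem_top η⟩
  let p : Ideal Γ(X, ⊤) := q.asIdeal
  have hp : ∀ b : Γ(X, ⊤), b ∈ p → η ∉ X.basicOpen b := by
    intro b hb
    have h1 := (isAffineOpen_top X).fromSpec_primeIdealOf ⟨η, Opens.mem_top η⟩
    have h2 := (isAffineOpen_top X).fromSpec_preimage_basicOpen b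
    rw [show η = (isAffineOpen_top X).fromSpec q from h1.symm]
    show q ∉ (isAffineOpen_top X).fromSpec ⁻¹ᵁ X.basicOpen b
    rw [h2]
    exact fun hq => (PrimeSpectrum.mem_basicOpen _ _).1 hq hb
  have : p.IsPrime := q.2
  have hlift : ∀ z : Pts X, η ⤳ z.pt → ∃ φ : (Γ(X, ⊤) ⧸ p) →ₐ[ℂ] ℂ, ∀ b, φ (Ideal.Quotient.mk p b) = z.evTop b := by
    intro z hz
    let φ₁ : Γ(X, ⊤) →ₐ[ℂ] ℂ := { evTopHom z with commutes' := fun a => evTop_strHom z a }
    have hker : ∀ b ∈ p, φ₁ b = 0 := fun b hb => by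
      by_contra h
      exact hp b hb (hz.mem_open (X.basicOpen b).2
        ((pt_mem_basicOpen_iff z (Opens.mem_top _) b).2 h))
    exact ⟨Ideal.Quotient.liftₐ p φ₁ hker, fun b => rfl⟩
  have hpts : ∀ v : charSet (Γ(X, ⊤) ⧸ p), ∃ z : Pts X, ∀ b, z.evTop b = v.1 (Ideal.Quotient.mk p b) := by
    rintro ⟨_, φ, rfl⟩
    exact exists_pts_of_ringHom ((φ : Γ(X, ⊤) ⧸ p →+* ℂ).comp (Ideal.Quotient.mk p))
      (fun a => φ.commutes a)
  choose Z hZ using hpts
  have hZc : Continuous Z := by
    have hE : IsInducing (fun (z : Pts X) (b : Γ(X, ⊤)) => z.evTop b) := ⟨topology_eq_induced_evTop X⟩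
    refine hE.continuous_iff.2 (continuous_pi fun b => ?_)
    exact ((continuous_apply _).comp continuous_subtype_val).congr fun v => (hZ v b).symm
  obtain ⟨c, hc⟩ := exists_const_of_exp (Γ(X, ⊤) ⧸ p) (Ideal.Quotient.mk p f) (h ∘ Z) (hh.comp hZc)
    fun v => (hexp _).trans (hZ v f)
  obtain ⟨φ, hφ⟩ := hlift x hx
  obtain ⟨ψ, hψ⟩ := hlift y hy
  rw [← hφ, ← hψ, hc, hc]

/-- A regular function with a continuous logarithm on a connected scheme has one value. -/
theorem evTop_eq_of_exp [ConnectedSpace X] (f : Γ(X, ⊤)) (h : Pts X → ℂ) (hh : Continuous h)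
    (hexp : ∀ x, Complex.exp (h x) = x.evTop f) (x y : Pts X) : x.evTop f = y.evTop f := by
  have hpiece : ∀ (η : X) (W : X.Opens), IsAffineOpen W → ∀ a b : Pts X, a.pt ∈ W → b.pt ∈ W →
      η ⤳ a.pt → η ⤳ b.pt → a.evTop f = b.evTop f := by
    intro η W hW a b ha hb hηa hηb
    have : IsAffine W.toScheme := hW
    have : LocallyOfFiniteType (W.toScheme ↘ SC) :=
      show LocallyOfFiniteType (W.ι ≫ X ↘ SC) from inferInstance
    obtain ⟨a, rfl⟩ := exists_map_ι_eq ha
    obtain ⟨b, rfl⟩ := exists_map_ι_eq hb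
    have hη : η ∈ W := hηa.mem_open W.2 ha
    rw [Pts.pt_map] at hηa hηb
    rw [evTop_map, evTop_map]
    refine evTop_eq_of_exp_affine (⟨η, hη⟩ : W.toScheme) (W.ι.appTop f) (h ∘ Pts.map W.ι)
      (hh.comp (Pts.continuous_map W.ι)) (fun z => by rw [← evTop_map]; exact hexp _) ?_ ?_
    · exact (W.ι.isOpenEmbedding.isInducing.specializes_iff).1 hηa
    · exact (W.ι.isOpenEmbedding.isInducing.specializes_iff).1 hηb
  have hcl : ∀ (η : X) (a b : Pts X), η ⤳ a.pt → η ⤳ b.pt → a.evTop f = b.evTop f := by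
    intro η a b ha hb
    obtain ⟨U, hU, haU, -⟩ := exists_isAffineOpen_mem_and_subset (U := ⊤) (x := a.pt) (Opens.mem_top _)
    obtain ⟨V, hV, hbV, -⟩ := exists_isAffineOpen_mem_and_subset (U := ⊤) (x := b.pt) (Opens.mem_top _)
    obtain ⟨c, ⟨hcU, hcV⟩, hc⟩ := exists_pt_mem_locallyClosed
      ((U.2.inter V.2).isLocallyClosed.inter (isClosed_closure (s := {η})).isLocallyClosed)
      ⟨η, ⟨ha.mem_open U.2 haU, hb.mem_open V.2 hbV⟩, subset_closure rfl⟩
    have hc' : η ⤳ c.pt := specializes_iff_mem_closure.2 hc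
    exact (hpiece η U hU a c haU hcU ha hc').trans (hpiece η V hV c b hcV hbV hc' hb)
  let S : Set ↥X := {z | ∀ a : Pts X, z ⤳ a.pt → a.evTop f = x.evTop f}
  have hS : IsClopen S := by
    refine isClopen_of_stable (fun z w hzw hz a ha => hz a (hzw.trans ha)) ?_
    intro w z hzw hw a ha
    obtain ⟨b, hb⟩ := exists_pt_mem_locallyClosed (X := X) (isClosed_closure (s := {w})).isLocallyClosed
      ⟨w, subset_closure rfl⟩
    have hb' : w ⤳ b.pt := specializes_iff_mem_closure.2 hb
    exact (hcl z a b ha (hzw.trans hb')).trans (hw b hb')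
  have hx : x.pt ∈ S := fun a ha => by
    have h1 : a.pt ∈ closure {x.pt} := ha.mem_closure
    rw [(isClosed_pt x).closure_eq] at h1
    rw [pt_injective h1]
  have hS' : S = Set.univ := (isClopen_iff.1 hS).resolve_left (Set.Nonempty.ne_empty ⟨_, hx⟩)
  have hy : y.pt ∈ S := hS' ▸ Set.mem_univ _
  exact (hy y specializes_rfl).symm

/-- A null-homotopic regular map to `ℂ^×` is constant. -/
theorem evTop_eq_of_nullhomotopic [ConnectedSpace X] (u : Γ(X, ⊤))
    (φ : C(Pts X, {z : ℂ // z ≠ 0})) (hφ : ∀ x : Pts X, (φ x).1 = x.evTop u)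
    (z₀ : {z : ℂ // z ≠ 0}) (hnull : φ.Homotopic (ContinuousMap.const (Pts X) z₀)) :
    ∀ x y : Pts X, x.evTop u = y.evTop u := by
  obtain ⟨H⟩ := hnull.symm
  let f₀ : C(Pts X, ℂ) := ContinuousMap.const _ (Complex.log z₀.1)
  have h0 : ∀ a, H.toContinuousMap (0, a) = ⟨_, (f₀ a).exp_ne_zero⟩ := fun a =>
    (H.apply_zero a).trans (Subtype.ext (Complex.exp_log z₀.2).symm)
  let G := Complex.isCoveringMap_exp.liftHomotopy H.toContinuousMap f₀ h0
  refine evTop_eq_of_exp u (fun a => G (1, a)) (G.continuous.comp (continuous_const.prodMk continuous_id))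
    fun a => ?_
  have e := congrFun (Complex.isCoveringMap_exp.liftHomotopy_lifts H.toContinuousMap f₀ h0) (1, a)
  rw [← hφ, ← H.apply_one a]
  exact congrArg Subtype.val e

end Groth.Agent.Lib.AnConn
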